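import Groth.Agent.REq.K959.Link

/-!
Points of open subschemes of affine space are directly linked.
-/

set_option autoImplicit false
universe u
open CategoryTheory CategoryTheory.Limits AlgebraicGeometry

namespace K959.Aff

open REq K959.Link

variable {k K : Type u} [Field k] [Field K] [Algebra k K] (n : ℕ)

/-- The structure morphism of affine space. -/
noncomputable abbrev str (k : Type u) [Field k] (n : ℕ) :
    Spec (CommRingCat.of (MvPolynomial (Fin n) k)) ⟶ Spec (CommRingCat.of k) :=
  Spec.map (CommRingCat.ofHom (algebraMap k (MvPolynomial (Fin n) k)))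

/-- The line through two points, as a ring homomorphism. -/
noncomputable def line (α β : Fin n → K) : MvPolynomial (Fin n) k →+* Polynomial K :=
  MvPolynomial.eval₂Hom (Polynomial.C.comp (algebraMap k K))
    (fun i => Polynomial.C (α i) + Polynomial.X * Polynomial.C (β i - α i))

theorem exists_hom (a : Spec (CommRingCat.of K) ⟶ Spec (CommRingCat.of (MvPolynomial (Fin n) k)))
    (ha : a ≫ str k n = specMap k K) : ∃ α : Fin n → K,
      a = Spec.map (CommRingCat.ofHom (MvPolynomial.eval₂Hom (algebraMap k K) α)) := by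
  obtain ⟨φ, rfl⟩ := Spec.map_surjective a
  rw [← Spec.map_comp] at ha
  have h1 := Spec.map_injective ha
  refine ⟨fun i => φ.hom (MvPolynomial.X i), ?_⟩
  congr 1
  ext : 1
  apply MvPolynomial.ringHom_ext
  · intro r
    have := congrArg (fun ψ => ψ.hom r) h1
    simp only [CommRingCat.hom_comp, CommRingCat.hom_ofHom, RingHom.comp_apply] at this
    simpa [MvPolynomial.algebraMap_eq] using this
  · intro i
    simp

theorem elemLink (V : (Spec (CommRingCat.of (MvPolynomial (Fin n) k))).Opens)
    (A B : Pts (V.ι ≫ str k n) K) : ElemLink (V.ι ≫ str k n) K A B := by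
  obtain ⟨α, hα⟩ := exists_hom n (A.1 ≫ V.ι) (by rw [Category.assoc]; exact A.2)
  obtain ⟨β, hβ⟩ := exists_hom n (B.1 ≫ V.ι) (by rw [Category.assoc]; exact B.2)
  refine elemLink_of_poly (str k n) V (Spec.map (CommRingCat.ofHom (line n α β))) ?_ 0 1 A B ?_ ?_
  · rw [← Spec.map_comp, ← Spec.map_comp, ← CommRingCat.ofHom_comp, ← CommRingCat.ofHom_comp]
    congr 2
    ext r
    simp [line, MvPolynomial.algebraMap_eq]
  · rw [hα, ← Spec.map_comp, ← CommRingCat.ofHom_comp]
    congr 2
    apply MvPolynomial.ringHom_ext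
    · intro r; simp [line]
    · intro i; simp [line]
  · rw [hβ, ← Spec.map_comp, ← CommRingCat.ofHom_comp]
    congr 2
    apply MvPolynomial.ringHom_ext
    · intro r; simp [line]
    · intro i; simp [line]

/-- Points of a retract of an open subscheme of affine space are directly linked. -/
theorem elemLink_retract {U : Scheme.{u}} (p : U ⟶ Spec (CommRingCat.of k))
    (V : (Spec (CommRingCat.of (MvPolynomial (Fin n) k))).Opens)
    (a : U ⟶ (V : Scheme.{u})) (b : (V : Scheme.{u}) ⟶ U) (hab : a ≫ b = 𝟙 U)
    (ha : a ≫ V.ι ≫ str k n = p) (hb : b ≫ p = V.ι ≫ str k n) (A B : Pts p K) :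
    ElemLink p K A B := by
  have h := ElemLink.map (V.ι ≫ str k n) (g := p) b hb
    (elemLink n V (Pts.map p (g := V.ι ≫ str k n) a ha A) (Pts.map p (g := V.ι ≫ str k n) a ha B))
  have e : ∀ A : Pts p K, Pts.map (V.ι ≫ str k n) (g := p) b hb
      (Pts.map p (g := V.ι ≫ str k n) a ha A) = A := by
    intro A
    apply Subtype.ext
    change (A.1 ≫ a) ≫ b = A.1
    rw [Category.assoc, hab, Category.comp_id]
  rwa [e, e] at h

end K959.Aff
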