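import Groth.Agent.REq.K959.Near
import Mathlib.RingTheory.Localization.NumDen
import Mathlib.RingTheory.Localization.Away.Basic
import Mathlib.RingTheory.FiniteType
import Mathlib.Algebra.Polynomial.AlgebraMap
import Mathlib.Algebra.Polynomial.Div
import Mathlib.RingTheory.Polynomial.Basic
import Mathlib.Algebra.Polynomial.FieldDivision
import Mathlib.RingTheory.PrincipalIdealDomain

/-!
Approximation of a point with values in a discrete valuation ring by a point with values in a
localization of the polynomial ring.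
-/

set_option autoImplicit false
set_option linter.unusedSectionVars false
universe u
open Polynomial

namespace K959.ArcAlg

open K959.Near

section Basic

variable {K D F : Type u} [Field K] [CommRing D] [IsDomain D] [IsDiscreteValuationRing D]
  [Algebra K D] (ρ : D →+* K) (hρ : ∀ c, ρ (algebraMap K D c) = c) (t : D)
  [Field F] [Algebra D F] [IsFractionRing D F]

include hρ in
theorem ρ_eq_zero_iff (d : D) : ρ d = 0 ↔ d ∈ IsLocalRing.maximalIdeal D := by
  have hs : Function.Surjective ρ := fun c => ⟨_, hρ c⟩
  have := IsLocalRing.eq_maximalIdeal (RingHom.ker_isMaximal_of_surjective ρ hs)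
  rw [← this, RingHom.mem_ker]

/-- Substituting `t`. -/
noncomputable def sub : K[X] →+* D := (Polynomial.aeval t : K[X] →ₐ[K] D).toRingHom

theorem sub_X : sub (K := K) t X = t := Polynomial.aeval_X t

theorem sub_C (c : K) : sub (K := K) t (C c) = algebraMap K D c := Polynomial.aeval_C t c

variable (ht : Irreducible t)

include hρ ht in
theorem ρ_sub (p : K[X]) : ρ (sub t p) = p.eval 0 := by
  have hρt : ρ t = 0 := by
    rw [ρ_eq_zero_iff ρ hρ, IsLocalRing.mem_maximalIdeal]
    exact ht.not_isUnit
  have : ρ.comp (sub t) = Polynomial.evalRingHom 0 := by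
    apply Polynomial.ringHom_ext
    · intro c
      rw [RingHom.comp_apply, sub_C, hρ]
      simp
    · rw [RingHom.comp_apply, sub_X, hρt]
      simp
  exact RingHom.congr_fun this p

include hρ ht in
theorem exists_approx (N : ℕ) (d : D) : ∃ (p : K[X]) (d' : D), d = sub t p + t ^ N * d' := by
  induction N with
  | zero => exact ⟨0, d, by simp⟩
  | succ N ih =>
    obtain ⟨p, d', h⟩ := ih
    have hm : d' - algebraMap K D (ρ d') ∈ IsLocalRing.maximalIdeal D := by
      rw [← ρ_eq_zero_iff ρ hρ, map_sub, hρ, sub_self]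
    rw [ht.maximalIdeal_eq, Ideal.mem_span_singleton] at hm
    obtain ⟨e, he⟩ := hm
    refine ⟨p + C (ρ d') * X ^ N, e, ?_⟩
    rw [map_add, map_mul, map_pow, sub_X, sub_C, pow_succ]
    linear_combination h + t ^ N * he

include hρ ht in
theorem sub_injective : Function.Injective (sub (K := K) t) := by
  rw [injective_iff_map_eq_zero]
  have key : ∀ (n : ℕ) (p : K[X]), p.natDegree ≤ n → sub t p = 0 → p = 0 := by
    intro n
    induction n with
    | zero =>
      intro p hp h
      rw [Polynomial.eq_C_of_natDegree_le_zero hp] at h ⊢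
      have := ρ_sub ρ hρ t ht (C (p.coeff 0))
      rw [h, map_zero, eval_C] at this
      rw [← this, map_zero]
    | succ n ih =>
      intro p hp h
      have h0 : p.eval 0 = 0 := by rw [← ρ_sub ρ hρ t ht, h, map_zero]
      have hX : X ∣ p := by
        rw [Polynomial.X_dvd_iff, ← h0, Polynomial.coeff_zero_eq_eval_zero]
      obtain ⟨p', rfl⟩ := hX
      rw [map_mul, sub_X] at h
      have h' := (mul_eq_zero.mp h).resolve_left ht.ne_zero
      by_cases hp' : p' = 0
      · rw [hp', mul_zero]
      · rw [ih p' (by rw [Polynomial.natDegree_X_mul hp'] at hp; omega) h', mul_zero]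
  exact fun p hp => key p.natDegree p le_rfl hp

/-- The embedding of rational functions. -/
noncomputable def emb (F : Type u) [Field F] [Algebra D F] [IsFractionRing D F] :
    FractionRing K[X] →+* F :=
  IsFractionRing.lift (g := (algebraMap D F).comp (sub t))
    ((IsFractionRing.injective D F).comp (sub_injective ρ hρ t ht))

theorem emb_algebraMap (p : K[X]) :
    emb ρ hρ t ht F (algebraMap K[X] (FractionRing K[X]) p) = algebraMap D F (sub t p) :=
  IsFractionRing.lift_algebraMap _ _

theorem exists_cl (M : ℕ) (y : F) : ∃ z : FractionRing K[X], Cl t M (emb ρ hρ t ht F z) y := by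
  obtain ⟨C, c, hc⟩ := bounded t ht y
  obtain ⟨p, d', hd⟩ := exists_approx ρ hρ t ht (M + C) c
  have htF : algebraMap D F t ≠ 0 := fun h => ht.ne_zero (IsFractionRing.injective D F (by
    rw [h, map_zero]))
  refine ⟨algebraMap K[X] _ p / algebraMap K[X] _ (X ^ C), -d', ?_⟩
  rw [map_div₀, emb_algebraMap, emb_algebraMap, map_pow, sub_X, map_pow,
    div_eq_iff (pow_ne_zero _ htF)]
  have h1 : algebraMap D F (sub t p) = algebraMap D F t ^ C * y -
      algebraMap D F t ^ (M + C) * algebraMap D F d' := by
    rw [← map_pow, hc, hd, map_add, map_mul, map_pow]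
    ring
  rw [h1, map_mul, map_neg, map_pow, pow_add]
  ring

theorem exists_num_den (y : FractionRing K[X]) (δ : D)
    (h : emb ρ hρ t ht F y = algebraMap D F δ) : ∃ a b : K[X], b.eval 0 ≠ 0 ∧
      y * algebraMap K[X] _ b = algebraMap K[X] _ a ∧ a.eval 0 = b.eval 0 * ρ δ := by
  obtain ⟨a, b, hab, hy⟩ := IsFractionRing.exists_reduced_fraction (A := K[X]) y
  have hyb : y * algebraMap K[X] (FractionRing K[X]) b = algebraMap K[X] _ a := by
    rw [← hy]; exact IsLocalization.mk'_spec _ _ _
  have h1 : sub t a = sub t (b : K[X]) * δ := by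
    apply IsFractionRing.injective D F
    rw [map_mul, ← h, ← emb_algebraMap ρ hρ t ht, ← emb_algebraMap ρ hρ t ht, ← hyb, map_mul,
      mul_comm]
  have h2 : a.eval 0 = (b : K[X]).eval 0 * ρ δ := by
    rw [← ρ_sub ρ hρ t ht, ← ρ_sub ρ hρ t ht, h1, map_mul]
  refine ⟨a, b, ?_, hyb, h2⟩
  intro hb0
  have ha0 : a.eval 0 = 0 := by rw [h2, hb0, zero_mul]
  have hXa : X ∣ a := by rw [Polynomial.X_dvd_iff, ← ha0, Polynomial.coeff_zero_eq_eval_zero]
  have hXb : X ∣ (b : K[X]) := by
    rw [Polynomial.X_dvd_iff, ← hb0, Polynomial.coeff_zero_eq_eval_zero]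
  exact Polynomial.not_isUnit_X (hab hXa hXb)

end Basic

end K959.ArcAlg
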