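import Groth.Agent.REq.K959.ArcAlg

/-!
The algebraic core: a point of a finite type algebra with values in a discrete valuation ring,
which factors generically through a basic open subscheme of affine space, is approximated by a
point with values in a localization of the polynomial ring.
-/

set_option autoImplicit false
universe u
open Polynomial

namespace K959.ArcCore

open K959.Near K959.ArcAlg

variable {k K D F : Type u} [Field k] [Field K] [Algebra k K] [CommRing D] [IsDomain D]
  [IsDiscreteValuationRing D] [Algebra K D] (ρ : D →+* K) (hρ : ∀ c, ρ (algebraMap K D c) = c)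
  [Field F] [Algebra D F] [IsFractionRing D F]

/-- The rational function field. -/
abbrev L (K : Type u) [Field K] : Type u := FractionRing K[X]

/-- Constants in the rational function field. -/
noncomputable def cL (k K : Type u) [Field k] [Field K] [Algebra k K] : k →+* L K :=
  ((algebraMap K[X] (L K)).comp (C : K →+* K[X])).comp (algebraMap k K)

/-- Evaluation at a point. -/
noncomputable def ev (q : K[X]) (c : K) (h : q.eval c ≠ 0) : Localization.Away q →+* K :=
  IsLocalization.Away.lift q (g := Polynomial.evalRingHom c)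
    (by simpa using h)

theorem ev_algebraMap (q : K[X]) (c : K) (h : q.eval c ≠ 0) (p : K[X]) :
    ev q c h (algebraMap K[X] _ p) = p.eval c :=
  IsLocalization.Away.lift_eq _ _ _

/-- The embedding of the localization. -/
noncomputable def lam (q : K[X]) (hq : q ≠ 0) : Localization.Away q →+* L K :=
  IsLocalization.Away.lift q (g := algebraMap K[X] (L K))
    (isUnit_iff_ne_zero.mpr fun h => hq (IsFractionRing.injective K[X] (L K) (by rw [h, map_zero])))

theorem lam_algebraMap (q : K[X]) (hq : q ≠ 0) (p : K[X]) :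
    lam q hq (algebraMap K[X] _ p) = algebraMap K[X] (L K) p :=
  IsLocalization.Away.lift_eq _ _ _

theorem lam_injective (q : K[X]) (hq : q ≠ 0) : Function.Injective (lam q hq) := by
  rw [injective_iff_map_eq_zero]
  intro x hx
  obtain ⟨n, p, hp⟩ := IsLocalization.Away.surj q x
  have h1 : algebraMap K[X] (L K) p = 0 := by
    rw [← lam_algebraMap q hq, ← hp, map_mul, hx, zero_mul]
  have h2 : p = 0 := IsFractionRing.injective K[X] (L K) (by rw [h1, map_zero])
  rw [h2, map_zero] at hp
  have hu : IsUnit (algebraMap K[X] (Localization.Away q) q ^ n) :=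
    (IsLocalization.Away.algebraMap_isUnit q).pow n
  exact (hu.mul_left_eq_zero).mp hp

variable {n m : ℕ} (h : MvPolynomial (Fin n) k) {R : Type u} [CommRing R] [Algebra k R]

/-- Evaluation of fractions at a point where the denominator does not vanish. -/
noncomputable def evFrac {S : Type u} [Field S] (φ : k →+* S) (w : Fin n → S)
    (hw : h.eval₂ φ w ≠ 0) : Localization.Away h →+* S :=
  IsLocalization.Away.lift h (g := MvPolynomial.eval₂Hom φ w)
    (by rw [MvPolynomial.coe_eval₂Hom]; exact isUnit_iff_ne_zero.mpr hw)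

theorem evFrac_algebraMap {S : Type u} [Field S] (φ : k →+* S) (w : Fin n → S)
    (hw : h.eval₂ φ w ≠ 0) (P : MvPolynomial (Fin n) k) :
    evFrac h φ w hw (algebraMap (MvPolynomial (Fin n) k) (Localization.Away h) P) = P.eval₂ φ w :=
  IsLocalization.Away.lift_eq _ _ _

/-- Values of fractions. -/
theorem map_frac {S : Type u} [Field S] (τ : Localization.Away h →+* S)
    (hτ : τ (algebraMap (MvPolynomial (Fin n) k) (Localization.Away h) h) ≠ 0) (s : Localization.Away h) (P : MvPolynomial (Fin n) k) (e : ℕ)
    (hs : s * algebraMap (MvPolynomial (Fin n) k) (Localization.Away h) h ^ e = algebraMap (MvPolynomial (Fin n) k) (Localization.Away h) P) :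
    τ s = τ (algebraMap (MvPolynomial (Fin n) k) (Localization.Away h) P) * (τ (algebraMap (MvPolynomial (Fin n) k) (Localization.Away h) h) ^ e)⁻¹ := by
  rw [← hs, map_mul, map_pow, mul_assoc, mul_inv_cancel₀ (pow_ne_zero _ hτ), mul_one]

include hρ in
theorem core [Algebra.FiniteType k R] (β : R →+* Localization.Away h)
    (hβ : ∀ c : k, β (algebraMap k R c) = algebraMap (MvPolynomial (Fin n) k) (Localization.Away h) (MvPolynomial.C c))
    (μ : R →+* D) (hμ : ∀ c : k, μ (algebraMap k R c) = algebraMap K D (algebraMap k K c))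
    (τ : Localization.Away h →+* F)
    (hτ : ∀ c : k, τ (algebraMap (MvPolynomial (Fin n) k) (Localization.Away h) (MvPolynomial.C c)) =
      algebraMap D F (algebraMap K D (algebraMap k K c)))
    (comm : ∀ r : R, τ (β r) = algebraMap D F (μ r)) :
    ∃ (q : K[X]) (hq : q.eval 0 ≠ 0) (hq0 : q ≠ 0) (χ : R →+* Localization.Away q)
      (E : Localization.Away h →+* L K),
      (∀ r, lam q hq0 (χ r) = E (β r)) ∧ (∀ r, ev q 0 hq (χ r) = ρ (μ r)) ∧
      (∀ c : k, χ (algebraMap k R c) = algebraMap K[X] _ (C (algebraMap k K c))) ∧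
      (∀ c : k, E (algebraMap (MvPolynomial (Fin n) k) (Localization.Away h) (MvPolynomial.C c)) = cL k K c) := by
  classical
  obtain ⟨t, ht⟩ := IsDiscreteValuationRing.exists_irreducible D
  let ι := emb ρ hρ t ht F
  let φF : k →+* F := ((algebraMap D F).comp (algebraMap K D)).comp (algebraMap k K)
  have hιc : ∀ c, ι (cL k K c) = φF c := by
    intro c
    change emb ρ hρ t ht F (algebraMap K[X] _ (C (algebraMap k K c))) = _
    rw [emb_algebraMap, sub_C]
    rfl
  -- the point with values in `F`
  let v : Fin n → F := fun i => τ (algebraMap (MvPolynomial (Fin n) k) (Localization.Away h) (MvPolynomial.X i))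
  have hτP : ∀ P : MvPolynomial (Fin n) k, τ (algebraMap (MvPolynomial (Fin n) k) (Localization.Away h) P) = P.eval₂ φF v := by
    intro P
    have : τ.comp (algebraMap (MvPolynomial (Fin n) k) (Localization.Away h)) = MvPolynomial.eval₂Hom φF v := by
      apply MvPolynomial.ringHom_ext
      · intro c
        rw [RingHom.comp_apply, hτ, MvPolynomial.eval₂Hom_C]
        rfl
      · intro i
        rw [RingHom.comp_apply, MvPolynomial.eval₂Hom_X']
    exact RingHom.congr_fun this P
  have hτh : τ (algebraMap (MvPolynomial (Fin n) k) (Localization.Away h) h) ≠ 0 :=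
    ((IsLocalization.Away.algebraMap_isUnit (S := Localization.Away h) h).map τ).ne_zero
  have hvh : h.eval₂ φF v ≠ 0 := by rw [← hτP]; exact hτh
  -- generators
  obtain ⟨m, π, hπ⟩ := Algebra.FiniteType.iff_quotient_mvPolynomial''.mp
    (inferInstance : Algebra.FiniteType k R)
  have hfrac : ∀ j : Fin m, ∃ (e : ℕ) (P : MvPolynomial (Fin n) k),
      β (π (MvPolynomial.X j)) * algebraMap (MvPolynomial (Fin n) k) (Localization.Away h) h ^ e = algebraMap (MvPolynomial (Fin n) k) (Localization.Away h) P := by
    intro j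
    obtain ⟨e, P, hP⟩ := IsLocalization.Away.surj h (β (π (MvPolynomial.X j)))
    exact ⟨e, P, hP⟩
  choose e P hP using hfrac
  let G : Fin m → (Fin n → F) → F := fun j w =>
    (P j).eval₂ φF w * ((h.eval₂ φF w) ^ e j)⁻¹
  have hG : ∀ j, CA t (G j) v := fun j =>
    CA.mul ht (CA.eval₂ ht φF (P j)) (CA.inv ht (CA.pow ht (CA.eval₂ ht φF h) _)
      (pow_ne_zero _ hvh))
  obtain ⟨M₀, hM₀⟩ := CA.ne_zero ht (CA.eval₂ ht φF h) hvh
  choose M hM using fun j => hG j 1
  let N := M₀ + ∑ j, M j
  have hN : ∀ j, M j ≤ N := fun j =>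
    (Finset.single_le_sum (f := M) (fun _ _ => Nat.zero_le _) (Finset.mem_univ j)).trans
      (Nat.le_add_left _ _)
  choose z hz using fun i => exists_cl ρ hρ t ht N (v i)
  have hzh' : h.eval₂ φF (fun i => ι (z i)) ≠ 0 :=
    hM₀ _ fun i => Cl.mono t (Nat.le_add_right _ _) (hz i)
  have hιeval : ∀ P : MvPolynomial (Fin n) k, ι (P.eval₂ (cL k K) z) =
      P.eval₂ φF (fun i => ι (z i)) := by
    intro P
    rw [MvPolynomial.hom_eval₂]
    congr 1
    ext c
    exact hιc c
  have hzh : h.eval₂ (cL k K) z ≠ 0 := fun h0 => hzh' (by rw [← hιeval, h0, map_zero])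
  let E : Localization.Away h →+* L K := evFrac h (cL k K) z hzh
  have hEP : ∀ P : MvPolynomial (Fin n) k, E (algebraMap (MvPolynomial (Fin n) k) (Localization.Away h) P) = P.eval₂ (cL k K) z :=
    fun P => evFrac_algebraMap h (cL k K) z hzh P
  -- values on generators
  have hval : ∀ j, ∃ δ : D, ι (E (β (π (MvPolynomial.X j)))) = algebraMap D F δ ∧
      ρ δ = ρ (μ (π (MvPolynomial.X j))) := by
    intro j
    have h1 : ι (E (β (π (MvPolynomial.X j)))) = G j (fun i => ι (z i)) := by
      have := map_frac h (ι.comp E) (by rw [RingHom.comp_apply, hEP, hιeval]; exact hzh')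
        _ _ _ (hP j)
      rw [RingHom.comp_apply, RingHom.comp_apply, RingHom.comp_apply, hEP, hEP, hιeval,
        hιeval] at this
      exact this
    have h2 : algebraMap D F (μ (π (MvPolynomial.X j))) = G j v := by
      rw [← comm, map_frac h τ hτh _ _ _ (hP j), hτP, hτP]
    obtain ⟨d, hd⟩ := hM j (fun i => ι (z i)) fun i => Cl.mono t (hN j) (hz i)
    refine ⟨μ (π (MvPolynomial.X j)) + t ^ 1 * d, ?_, ?_⟩
    · rw [h1, hd, map_add, h2]
    · rw [map_add, pow_one]
      have : ρ (t * d) = 0 := by
        rw [ρ_eq_zero_iff ρ hρ, IsLocalRing.mem_maximalIdeal]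
        exact fun hu => ht.not_isUnit (isUnit_of_mul_isUnit_left hu)
      rw [this, add_zero]
  choose δ hδ hρδ using hval
  choose a b hb0 hyb hab using fun j => exists_num_den ρ hρ t ht (F := F) _ _ (hδ j)
  let q : K[X] := ∏ j, b j
  have hq : q.eval 0 ≠ 0 := by
    rw [Polynomial.eval_prod]
    exact Finset.prod_ne_zero_iff.mpr fun j _ => hb0 j
  have hq0 : q ≠ 0 := by
    intro h0
    rw [h0, eval_zero] at hq
    exact hq rfl
  have hbu : ∀ j, IsUnit (algebraMap K[X] (Localization.Away q) (b j)) := by
    intro j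
    have hdvd : b j ∣ q := Finset.dvd_prod_of_mem b (Finset.mem_univ j)
    exact isUnit_of_dvd_unit (map_dvd _ hdvd) (IsLocalization.Away.algebraMap_isUnit q)
  -- the range of `E ∘ β` lies in the localization
  have hrange : ∀ r : R, E (β r) ∈ (lam q hq0).range := by
    intro r
    obtain ⟨p, rfl⟩ := hπ r
    induction p using MvPolynomial.induction_on with
    | C c =>
      refine ⟨algebraMap K[X] _ (C (algebraMap k K c)), ?_⟩
      have : π (MvPolynomial.C c) = algebraMap k R c := by
        rw [← MvPolynomial.algebraMap_eq]; exact π.commutes c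
      rw [this, hβ, hEP, MvPolynomial.eval₂_C, lam_algebraMap]
      rfl
    | add p p' hp hp' =>
      rw [map_add, map_add, map_add]
      exact add_mem hp hp'
    | mul_X p j hp =>
      rw [map_mul, map_mul, map_mul]
      refine mul_mem hp ?_
      obtain ⟨u, hu⟩ := hbu j
      refine ⟨algebraMap K[X] _ (a j) * ((u⁻¹ : (Localization.Away q)ˣ) : Localization.Away q), ?_⟩
      have hbL : algebraMap K[X] (L K) (b j) ≠ 0 := fun h0 => hb0 j (by
        have : b j = 0 := IsFractionRing.injective K[X] (L K) (by rw [h0, map_zero])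
        rw [this, eval_zero])
      apply mul_right_cancel₀ hbL
      rw [hyb j, ← lam_algebraMap q hq0, ← lam_algebraMap q hq0, ← map_mul, mul_assoc, ← hu,
        Units.inv_mul, mul_one]
  let eq := RingEquiv.ofBijective (lam q hq0).rangeRestrict
    ⟨fun x y hxy => lam_injective q hq0 (congrArg Subtype.val hxy),
      (lam q hq0).rangeRestrict_surjective⟩
  let χ : R →+* Localization.Away q :=
    eq.symm.toRingHom.comp ((E.comp β).codRestrict (lam q hq0).range hrange)
  have hχ : ∀ r, lam q hq0 (χ r) = E (β r) := by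
    intro r
    have : (lam q hq0).rangeRestrict (χ r) = (E.comp β).codRestrict (lam q hq0).range hrange r :=
      eq.apply_symm_apply _
    exact congrArg Subtype.val this
  have hχc : ∀ c : k, χ (algebraMap k R c) = algebraMap K[X] _ (C (algebraMap k K c)) := by
    intro c
    apply lam_injective q hq0
    rw [hχ, hβ, hEP, MvPolynomial.eval₂_C, lam_algebraMap]
    rfl
  refine ⟨q, hq, hq0, χ, E, hχ, ?_, hχc, fun c => by rw [hEP, MvPolynomial.eval₂_C]⟩
  intro r
  obtain ⟨p, rfl⟩ := hπ r
  induction p using MvPolynomial.induction_on with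
  | C c =>
    have : π (MvPolynomial.C c) = algebraMap k R c := by
      rw [← MvPolynomial.algebraMap_eq]; exact π.commutes c
    rw [this, hχc, ev_algebraMap, eval_C, hμ, hρ]
  | add p p' hp hp' =>
    rw [map_add, map_add, map_add, map_add, map_add, hp, hp']
  | mul_X p j hp =>
    rw [map_mul, map_mul, map_mul, map_mul, map_mul, hp]
    congr 1
    have h1 : χ (π (MvPolynomial.X j)) * algebraMap K[X] _ (b j) = algebraMap K[X] _ (a j) := by
      apply lam_injective q hq0
      rw [map_mul, hχ, lam_algebraMap, lam_algebraMap, hyb]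
    have h2 := congrArg (ev q 0 hq) h1
    rw [map_mul, ev_algebraMap, ev_algebraMap, hab j, mul_comm] at h2
    rw [mul_left_cancel₀ (hb0 j) h2, hρδ]

end K959.ArcCore
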