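import Groth.Agent.REq.K959.RatPt
import Groth.Agent.REq.K959.ArcCore
import Mathlib.AlgebraicGeometry.Morphisms.FiniteType

/-!
A point which is the closed point of a discrete valuation ring mapping generically into a retract
of an open subscheme of affine space is directly linked to a point of that retract.
-/

set_option autoImplicit false
set_option linter.style.haveILetI false
universe u
open CategoryTheory CategoryTheory.Limits AlgebraicGeometry

namespace K959.ArcGeom

open REq K959.Link K959.Aff K959.ArcCore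

variable {k K : Type u} [Field k] [Field K] [Algebra k K] {X : Scheme.{u}}
  (f : X ⟶ Spec (CommRingCat.of k))

/-- A direct link from an open immersion to the projective line. -/
theorem elemLink_of_openImmersion (A B : Pts f K) {S : Scheme.{u}} (j : S ⟶ P1K K)
    [IsOpenImmersion j] (h : S ⟶ X) (hh : h ≫ f = j ≫ P1K.toSpec K ≫ specMap k K)
    (a b : Spec (CommRingCat.of K) ⟶ S) (ha : a ≫ j ≫ P1K.toSpec K = 𝟙 _)
    (hb : b ≫ j ≫ P1K.toSpec K = 𝟙 _) (hA : a ≫ h = A.1) (hB : b ≫ h = B.1) :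
    ElemLink f K A B := by
  let e := j.isoOpensRange
  have he : e.hom ≫ j.opensRange.ι = j := j.isoOpensRange_hom_ι
  have he' : e.inv ≫ j = j.opensRange.ι := by rw [Iso.inv_comp_eq, he]
  refine ⟨j.opensRange, e.inv ≫ h, a ≫ e.hom, b ≫ e.hom, ?_, ?_, ?_, ?_, ?_⟩
  · rw [Category.assoc, hh, ← Category.assoc e.inv, he']
  · rw [Category.assoc, ← Category.assoc e.hom, he, ha]
  · rw [Category.assoc, ← Category.assoc e.hom, he, hb]
  · rw [Category.assoc, Iso.hom_inv_id_assoc, hA]
  · rw [Category.assoc, Iso.hom_inv_id_assoc, hB]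

/-- A morphism from the spectrum of a local ring maps into any open containing the image of the
closed point. -/
theorem range_subset_of_closedPoint {D : Type u} [CommRing D] [IsLocalRing D]
    (u : Spec (CommRingCat.of D) ⟶ X) (W : X.Opens)
    (h : u (IsLocalRing.closedPoint D) ∈ W) : Set.range u ⊆ (W : Set X) := by
  rintro _ ⟨z, rfl⟩
  have hz : z ⤳ IsLocalRing.closedPoint D := IsLocalRing.specializes_closedPoint z
  exact (hz.map u.continuous).mem_open W.isOpen h

theorem exists_lift {S : Type u} [CommRing S] (u : Spec (CommRingCat.of S) ⟶ X) {W : X.Opens}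
    (hW : IsAffineOpen W) (h : Set.range u ⊆ (W : Set X)) :
    ∃ μ : Γ(X, W) →+* S, u = Spec.map (CommRingCat.ofHom μ) ≫ hW.fromSpec := by
  have hr : Set.range u ⊆ Set.range hW.fromSpec := by rw [hW.range_fromSpec]; exact h
  obtain ⟨φ, hφ⟩ := Spec.map_surjective (IsOpenImmersion.lift hW.fromSpec u hr)
  exact ⟨φ.hom, by rw [CommRingCat.ofHom_hom, hφ, IsOpenImmersion.lift_fac]⟩

theorem map_ofHom_injective {R S : Type u} [CommRing R] [CommRing S] {φ ψ : R →+* S}
    (h : Spec.map (CommRingCat.ofHom φ) = Spec.map (CommRingCat.ofHom ψ)) : φ = ψ := by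
  have := congrArg CommRingCat.Hom.hom (Spec.map_injective h)
  exact this

theorem main [LocallyOfFiniteType f] [Infinite K] (U : X.Opens) (n : ℕ)
    (V : (Spec (CommRingCat.of (MvPolynomial (Fin n) k))).Opens)
    (a : (U : Scheme.{u}) ⟶ (V : Scheme.{u})) (b : (V : Scheme.{u}) ⟶ (U : Scheme.{u}))
    (hab : a ≫ b = 𝟙 (U : Scheme.{u})) (ha : a ≫ V.ι ≫ str k n = U.ι ≫ f)
    (hb : b ≫ U.ι ≫ f = V.ι ≫ str k n)
    (D : Type u) [CommRing D] [IsDomain D] [IsDiscreteValuationRing D] [Algebra K D]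
    (ρ : D →+* K) (hρ : ∀ c, ρ (algebraMap K D c) = c)
    (u : Spec (CommRingCat.of D) ⟶ X)
    (hu : u ≫ f = Spec.map (CommRingCat.ofHom (algebraMap K D)) ≫ specMap k K)
    (x : Pts f K) (hx : Spec.map (CommRingCat.ofHom ρ) ≫ u = x.1)
    (F : Type u) [Field F] [Algebra D F] [IsFractionRing D F]
    (hF : Set.range (Spec.map (CommRingCat.ofHom (algebraMap D F)) ≫ u) ⊆ (U : Set X)) :
    ∃ y : Pts f K, InOpen f U y ∧ ElemLink f K x y := by
  -- an affine neighbourhood
  obtain ⟨W, hW, hxW, -⟩ := exists_isAffineOpen_mem_and_subset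
    (x := u (IsLocalRing.closedPoint D)) (U := ⊤) trivial
  obtain ⟨μ, hμ⟩ := exists_lift u hW (range_subset_of_closedPoint u W hxW)
  obtain ⟨φ, hφ⟩ := Spec.map_surjective (hW.fromSpec ≫ f)
  letI : Algebra k Γ(X, W) := φ.hom.toAlgebra
  have hφ' : Spec.map (CommRingCat.ofHom (algebraMap k Γ(X, W))) = hW.fromSpec ≫ f := hφ
  have hft : Algebra.FiniteType k Γ(X, W) := by
    have h1 : LocallyOfFiniteType (Spec.map φ) := by rw [hφ]; infer_instance
    exact (HasRingHomProperty.Spec_iff (P := @LocallyOfFiniteType)).mp h1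
  -- the point with values in the fraction field
  let uF := Spec.map (CommRingCat.ofHom (algebraMap D F)) ≫ u
  have hFU : Set.range uF ⊆ Set.range U.ι := by rw [Scheme.Opens.range_ι]; exact hF
  let uU : Spec (CommRingCat.of F) ⟶ (U : Scheme.{u}) := IsOpenImmersion.lift U.ι uF hFU
  have huU : uU ≫ U.ι = uF := IsOpenImmersion.lift_fac _ _ _
  obtain ⟨τ₀, hτ₀⟩ := Spec.map_surjective (uU ≫ a ≫ V.ι)
  let z : Spec (CommRingCat.of F) := IsLocalRing.closedPoint F
  -- the open of the affine space mapping into `W`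
  let V' : (V : Scheme.{u}).Opens := (b ≫ U.ι) ⁻¹ᵁ W
  have hzV' : (uU ≫ a) z ∈ V' := by
    change (b ≫ U.ι) ((uU ≫ a) z) ∈ W
    rw [← Scheme.Hom.comp_apply, Category.assoc, reassoc_of% hab, huU]
    exact range_subset_of_closedPoint u W hxW ⟨_, rfl⟩
  have hz2 : (uU ≫ a ≫ V.ι) z ∈ V.ι ''ᵁ V' := ⟨(uU ≫ a) z, hzV', rfl⟩
  obtain ⟨_, ⟨_, ⟨h, rfl⟩, rfl⟩, hzh, hhV⟩ :=
    PrimeSpectrum.isBasis_basic_opens.exists_subset_of_mem_open hz2 (V.ι ''ᵁ V').isOpen
  let Rh := Localization.Away h
  have hgr : Set.range (Spec.map (CommRingCat.ofHom (algebraMap (MvPolynomial (Fin n) k) Rh))) =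
      (PrimeSpectrum.basicOpen h : Set (PrimeSpectrum (MvPolynomial (Fin n) k))) :=
    PrimeSpectrum.localization_away_comap_range Rh h
  have hgV : Set.range (Spec.map (CommRingCat.ofHom (algebraMap (MvPolynomial (Fin n) k) Rh))) ⊆
      Set.range V.ι := by
    rw [hgr, Scheme.Opens.range_ι]
    intro y hy
    obtain ⟨y', -, rfl⟩ := hhV hy
    exact y'.2
  let g : Spec (CommRingCat.of Rh) ⟶ (V : Scheme.{u}) := IsOpenImmersion.lift V.ι _ hgV
  have hg : g ≫ V.ι = Spec.map (CommRingCat.ofHom (algebraMap (MvPolynomial (Fin n) k) Rh)) :=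
    IsOpenImmersion.lift_fac _ _ _
  have hgW : Set.range (g ≫ b ≫ U.ι) ⊆ (W : Set X) := by
    rintro _ ⟨y, rfl⟩
    have h1 : (g ≫ V.ι) y ∈
        (PrimeSpectrum.basicOpen h : Set (PrimeSpectrum (MvPolynomial (Fin n) k))) := by
      rw [← hgr, hg]; exact ⟨y, rfl⟩
    obtain ⟨y', hy', he⟩ := hhV h1
    have h2 : y' = g y := V.ι.isOpenEmbedding.injective he
    rw [h2] at hy'
    exact hy'
  obtain ⟨β, hβ⟩ := exists_lift (g ≫ b ≫ U.ι) hW hgW
  -- the point factors through the basic open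
  have hτ0h : IsUnit (τ₀.hom h) := by
    rw [isUnit_iff_ne_zero]
    intro h0
    rw [← hτ₀] at hzh
    apply hzh
    change τ₀.hom h ∈ z.asIdeal
    rw [h0]
    exact Ideal.zero_mem _
  let τ : Rh →+* F := IsLocalization.Away.lift h hτ0h
  have hττ₀ : τ.comp (algebraMap (MvPolynomial (Fin n) k) Rh) = τ₀.hom :=
    IsLocalization.Away.lift_comp h hτ0h
  have hτg : Spec.map (CommRingCat.ofHom τ) ≫ g = uU ≫ a := by
    rw [← cancel_mono V.ι, Category.assoc, Category.assoc, hg, ← hτ₀, ← Spec.map_comp,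
      ← CommRingCat.ofHom_comp, hττ₀]
    rfl
  have comm : ∀ r, τ (β r) = algebraMap D F (μ r) := by
    have h1 : Spec.map (CommRingCat.ofHom (τ.comp β)) ≫ hW.fromSpec =
        Spec.map (CommRingCat.ofHom ((algebraMap D F).comp μ)) ≫ hW.fromSpec := by
      rw [CommRingCat.ofHom_comp, CommRingCat.ofHom_comp, Spec.map_comp, Spec.map_comp,
        Category.assoc, Category.assoc, ← hβ, ← hμ, reassoc_of% hτg, reassoc_of% hab, huU]
    have h2 := map_ofHom_injective ((cancel_mono _).mp h1)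
    exact fun r => RingHom.congr_fun h2 r
  -- compatibility with the constants
  have hβc : ∀ c : k, β (algebraMap k Γ(X, W) c) =
      algebraMap (MvPolynomial (Fin n) k) Rh (MvPolynomial.C c) := by
    have h1 : Spec.map (CommRingCat.ofHom (β.comp (algebraMap k Γ(X, W)))) =
        Spec.map (CommRingCat.ofHom ((algebraMap (MvPolynomial (Fin n) k) Rh).comp
          (algebraMap k (MvPolynomial (Fin n) k)))) := by
      rw [CommRingCat.ofHom_comp, CommRingCat.ofHom_comp, Spec.map_comp, Spec.map_comp, hφ',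
        ← Category.assoc, ← hβ, Category.assoc, Category.assoc, hb, reassoc_of% hg]
    exact fun c => RingHom.congr_fun (map_ofHom_injective h1) c
  have hμc : ∀ c : k, μ (algebraMap k Γ(X, W) c) = algebraMap K D (algebraMap k K c) := by
    have h1 : Spec.map (CommRingCat.ofHom (μ.comp (algebraMap k Γ(X, W)))) =
        Spec.map (CommRingCat.ofHom ((algebraMap K D).comp (algebraMap k K))) := by
      rw [CommRingCat.ofHom_comp, CommRingCat.ofHom_comp, Spec.map_comp, Spec.map_comp, hφ',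
        ← Category.assoc, ← hμ, hu]
    exact fun c => RingHom.congr_fun (map_ofHom_injective h1) c
  have hτc : ∀ c : k, τ (algebraMap (MvPolynomial (Fin n) k) Rh (MvPolynomial.C c)) =
      algebraMap D F (algebraMap K D (algebraMap k K c)) := by
    intro c
    rw [← hβc, comm, hμc]
  obtain ⟨q, hq, hq0, χ, E, hχ, hev, hχc, hEc⟩ := core ρ hρ h β hβc μ hμc τ hτc comm
  -- the morphism from the localization of the affine line
  let S : Scheme.{u} := Spec (CommRingCat.of (Localization.Away q))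
  let j : S ⟶ P1K K := Spec.map (CommRingCat.ofHom (algebraMap (Polynomial K)
    (Localization.Away q))) ≫ jA K 0
  have hloc : IsOpenImmersion (Spec.map (CommRingCat.ofHom (algebraMap (Polynomial K)
    (Localization.Away q)))) := inferInstance
  have hj : IsOpenImmersion j := inferInstance
  let hS : S ⟶ X := Spec.map (CommRingCat.ofHom χ) ≫ hW.fromSpec
  have hSf : hS ≫ f = j ≫ P1K.toSpec K ≫ specMap k K := by
    simp only [hS, j, Category.assoc]
    rw [← hφ', jA_toSpec_assoc, ← Spec.map_comp, ← Spec.map_comp, ← Spec.map_comp,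
      ← CommRingCat.ofHom_comp, ← CommRingCat.ofHom_comp, ← CommRingCat.ofHom_comp]
    congr 2
    ext c
    exact hχc c
  have hpt : ∀ (c : K) (hc : q.eval c ≠ 0),
      Spec.map (CommRingCat.ofHom (ev q c hc)) ≫ j ≫ P1K.toSpec K = 𝟙 _ := by
    intro c hc
    simp only [j, Category.assoc]
    rw [jA_toSpec, ← Spec.map_comp, ← Spec.map_comp, ← CommRingCat.ofHom_comp,
      ← CommRingCat.ofHom_comp]
    have : ((ev q c hc).comp (algebraMap (Polynomial K) (Localization.Away q))).comp
        Polynomial.C = RingHom.id K := by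
      ext d
      rw [RingHom.comp_apply, RingHom.comp_apply, ev_algebraMap, Polynomial.eval_C]
      rfl
    rw [← RingHom.comp_assoc, this]
    exact Spec.map_id _
  -- the generic point of `S` maps into `U`
  have hgen : Spec.map (CommRingCat.ofHom (lam q hq0)) ≫ hS =
      Spec.map (CommRingCat.ofHom E) ≫ g ≫ b ≫ U.ι := by
    simp only [hS]
    rw [hβ, ← Spec.map_comp_assoc, ← Spec.map_comp_assoc, ← CommRingCat.ofHom_comp,
      ← CommRingCat.ofHom_comp]
    congr 3
    ext r
    exact hχ r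
  let zL : Spec (CommRingCat.of (L K)) := IsLocalRing.closedPoint (L K)
  have hzL : Spec.map (CommRingCat.ofHom (lam q hq0)) zL ∈ hS ⁻¹ᵁ U := by
    change hS (Spec.map (CommRingCat.ofHom (lam q hq0)) zL) ∈ U
    rw [← Scheme.Hom.comp_apply, hgen]
    exact ((Spec.map (CommRingCat.ofHom E) ≫ g ≫ b) zL).2
  obtain ⟨_, ⟨_, ⟨s, rfl⟩, rfl⟩, hzs, hsU⟩ :=
    PrimeSpectrum.isBasis_basic_opens.exists_subset_of_mem_open hzL (hS ⁻¹ᵁ U).isOpen
  have hs0 : s ≠ 0 := by
    rintro rfl
    exact hzs (Ideal.zero_mem _)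
  obtain ⟨e, p, hp⟩ := IsLocalization.Away.surj q s
  have hp0 : p ≠ 0 := by
    rintro rfl
    rw [map_zero] at hp
    exact hs0 (((IsLocalization.Away.algebraMap_isUnit q).pow e).mul_left_eq_zero.mp hp)
  obtain ⟨c, hc⟩ : ∃ c : K, (p * q).eval c ≠ 0 := by
    by_contra hcon
    push Not at hcon
    exact mul_ne_zero hp0 hq0 (Polynomial.funext fun c => by rw [hcon c, Polynomial.eval_zero])
  rw [Polynomial.eval_mul] at hc
  have hpc : p.eval c ≠ 0 := left_ne_zero_of_mul hc
  have hqc : q.eval c ≠ 0 := right_ne_zero_of_mul hc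
  have hsc : ev q c hqc s ≠ 0 := by
    intro h0
    have := congrArg (ev q c hqc) hp
    rw [map_mul, h0, zero_mul, ev_algebraMap] at this
    exact hpc this.symm
  have hyf : (Spec.map (CommRingCat.ofHom (ev q c hqc)) ≫ hS) ≫ f = specMap k K := by
    rw [Category.assoc, hSf, reassoc_of% (hpt c hqc)]
  refine ⟨⟨Spec.map (CommRingCat.ofHom (ev q c hqc)) ≫ hS, hyf⟩, ?_, ?_⟩
  · rintro _ ⟨y, rfl⟩
    change hS (Spec.map (CommRingCat.ofHom (ev q c hqc)) y) ∈ U
    apply hsU
    change ¬ (ev q c hqc s ∈ y.asIdeal)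
    intro hmem
    exact y.2.ne_top (Ideal.eq_top_of_isUnit_mem _ hmem (isUnit_iff_ne_zero.mpr hsc))
  · refine elemLink_of_openImmersion f x _ j hS hSf
      (Spec.map (CommRingCat.ofHom (ev q 0 hq))) (Spec.map (CommRingCat.ofHom (ev q c hqc)))
      (hpt 0 hq) (hpt c hqc) ?_ rfl
    rw [← hx, hμ]
    simp only [hS]
    rw [← Spec.map_comp_assoc, ← Spec.map_comp_assoc, ← CommRingCat.ofHom_comp,
      ← CommRingCat.ofHom_comp]
    congr 3
    ext r
    exact hev r

end K959.ArcGeom
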