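import Groth.Agent.Sga4B.P1Geom441
import Groth.Prelude.Def_W4c5nonratstablectREq
import Mathlib.Algebra.MvPolynomial.Equiv

/-!
The affine line in the projective line over a field, and direct R-links built from it.
-/

set_option autoImplicit false
universe u
open CategoryTheory CategoryTheory.Limits AlgebraicGeometry

namespace K959.Link

open P1 Groth.Agent.CycB.P1Chart Groth.Agent.Sga4B.P1Geom REq

section Chart

variable (K : Type u) [Field K] (i : Fin (1 + 1))

/-- The affine line with coordinate `X` as the chart `T_i ≠ 0` of `P^1_K`. -/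
noncomputable def jA : Spec (CommRingCat.of (Polynomial K)) ⟶ P1K K :=
  pt (B := CommRingCat.of (Polynomial K)) i (Spec.map (CommRingCat.ofHom Polynomial.C)) Polynomial.X

@[reassoc (attr := simp)]
theorem jA_toSpec : jA K i ≫ P1K.toSpec K = Spec.map (CommRingCat.ofHom Polynomial.C) :=
  pt_toBase _ _ _

/-- Evaluation at `a` followed by the chart is the point with coordinate `a`. -/
theorem eval_jA (a : K) : Spec.map (CommRingCat.ofHom (Polynomial.evalRingHom a)) ≫ jA K i =
    pt (B := CommRingCat.of K) i (𝟙 _) a := by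
  unfold jA
  rw [map_pt, ← Spec.map_comp, ← CommRingCat.ofHom_comp]
  congr 1
  · have : (Polynomial.evalRingHom a).comp Polynomial.C = RingHom.id K := by ext; simp
    rw [this]
    exact Spec.map_id _
  · exact Polynomial.eval_X

noncomputable def uniq : MvPolynomial I.{u} K ≃+* Polynomial K :=
  (MvPolynomial.uniqueAlgEquiv K I.{u}).toRingEquiv

theorem uniq_X (j : I.{u}) : uniq K (MvPolynomial.X j) = Polynomial.X := by
  unfold uniq
  simp [MvPolynomial.uniqueAlgEquiv]

theorem uniq_C (r : K) : uniq K (MvPolynomial.C r) = Polynomial.C r := by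
  unfold uniq
  simp [MvPolynomial.uniqueAlgEquiv]

theorem jA_eq : jA K i = Spec.map (CommRingCat.ofHom (uniq K).toRingHom) ≫
    (AffineSpace.SpecIso I.{u} (CommRingCat.of K)).inv ≫ v (Spec (CommRingCat.of K)) i := by
  apply hom_ext
  · have hfrom : specULiftZIsTerminal.from (Spec (CommRingCat.of K)) =
        Spec.map (CommRingCat.ofHom ((Int.castRingHom K).comp
          (ULift.ringEquiv.toRingHom : R0.{u} →+* ℤ))) :=
      specULiftZIsTerminal.hom_ext _ _
    rw [Category.assoc, Category.assoc, v_toZ, hfrom, AffineSpace.map_SpecMap, v0]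
    simp only [Category.assoc, Iso.inv_hom_id_assoc]
    unfold jA
    rw [pt_toZ, ← Spec.map_comp_assoc, ← Spec.map_comp_assoc, ← CommRingCat.ofHom_comp,
      ← CommRingCat.ofHom_comp]
    congr 3
    apply chart_hom_ext
    rw [chartMap_coord, RingHom.comp_apply, RingHom.comp_apply, toPoly_coord]
    simp [uniq_X]
  · rw [Category.assoc, Category.assoc, v_toBase, AffineSpace.SpecIso_inv_over]
    unfold jA
    rw [pt_toBase, ← Spec.map_comp, ← CommRingCat.ofHom_comp]
    congr 2
    ext r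
    simp [uniq_C]

instance isOpenImmersion_jA : IsOpenImmersion (jA K i) := by
  have : IsIso (CommRingCat.ofHom (uniq K).toRingHom) :=
    (ConcreteCategory.isIso_iff_bijective _).mpr (uniq K).bijective
  rw [jA_eq]
  infer_instance

end Chart

section Link

variable {k K : Type u} [Field k] [Field K] [Algebra k K] {X : Scheme.{u}}
  (f : X ⟶ Spec (CommRingCat.of k))

/-- A direct link from an open subscheme of the affine line. -/
theorem elemLink_of_affineLine (A B : Pts f K) (W : (Spec (CommRingCat.of (Polynomial K))).Opens)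
    (h : (W : Scheme.{u}) ⟶ X)
    (hh : h ≫ f = W.ι ≫ Spec.map (CommRingCat.ofHom Polynomial.C) ≫ specMap k K)
    (a b : Spec (CommRingCat.of K) ⟶ (W : Scheme.{u}))
    (ha : a ≫ W.ι ≫ Spec.map (CommRingCat.ofHom Polynomial.C) = 𝟙 _)
    (hb : b ≫ W.ι ≫ Spec.map (CommRingCat.ofHom Polynomial.C) = 𝟙 _)
    (hA : a ≫ h = A.1) (hB : b ≫ h = B.1) : ElemLink f K A B := by
  refine ⟨(jA K 0) ''ᵁ W, ((jA K 0).isoImage W).inv ≫ h, a ≫ ((jA K 0).isoImage W).hom,
    b ≫ ((jA K 0).isoImage W).hom, ?_, ?_, ?_, ?_, ?_⟩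
  · rw [Category.assoc, hh, ← jA_toSpec K 0]
    simp only [Category.assoc, Scheme.Hom.isoImage_inv_ι_assoc]
  · rw [Category.assoc, Scheme.Hom.isoImage_hom_ι_assoc, jA_toSpec, ha]
  · rw [Category.assoc, Scheme.Hom.isoImage_hom_ι_assoc, jA_toSpec, hb]
  · rw [Category.assoc, Iso.hom_inv_id_assoc, hA]
  · rw [Category.assoc, Iso.hom_inv_id_assoc, hB]

theorem eval_C (s : K) : Spec.map (CommRingCat.ofHom (Polynomial.evalRingHom s)) ≫
    Spec.map (CommRingCat.ofHom Polynomial.C) = 𝟙 _ := by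
  rw [← Spec.map_comp, ← CommRingCat.ofHom_comp]
  have : (Polynomial.evalRingHom s).comp Polynomial.C = RingHom.id K := by ext; simp
  rw [this]
  exact Spec.map_id _

/-- A direct link in an open subscheme of the target of a morphism from the affine line. -/
theorem elemLink_of_poly (V : X.Opens) (c : Spec (CommRingCat.of (Polynomial K)) ⟶ X)
    (hc : c ≫ f = Spec.map (CommRingCat.ofHom Polynomial.C) ≫ specMap k K) (s t : K)
    (A B : Pts (V.ι ≫ f) K)
    (hA : A.1 ≫ V.ι = Spec.map (CommRingCat.ofHom (Polynomial.evalRingHom s)) ≫ c)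
    (hB : B.1 ≫ V.ι = Spec.map (CommRingCat.ofHom (Polynomial.evalRingHom t)) ≫ c) :
    ElemLink (V.ι ≫ f) K A B := by
  have hr : ∀ (s : K) (A : Spec (CommRingCat.of K) ⟶ (V : Scheme.{u})),
      A ≫ V.ι = Spec.map (CommRingCat.ofHom (Polynomial.evalRingHom s)) ≫ c →
      Set.range (Spec.map (CommRingCat.ofHom (Polynomial.evalRingHom s))) ⊆
        Set.range (c ⁻¹ᵁ V).ι := by
    rintro s A h _ ⟨x, rfl⟩
    rw [Scheme.Opens.range_ι]
    change c (Spec.map (CommRingCat.ofHom (Polynomial.evalRingHom s)) x) ∈ V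
    rw [← Scheme.Hom.comp_apply, ← h, Scheme.Hom.comp_apply]
    exact (A x).2
  refine elemLink_of_affineLine (V.ι ≫ f) A B (c ⁻¹ᵁ V) (c ∣_ V) ?_
    (IsOpenImmersion.lift (c ⁻¹ᵁ V).ι _ (hr s A.1 hA))
    (IsOpenImmersion.lift (c ⁻¹ᵁ V).ι _ (hr t B.1 hB)) ?_ ?_ ?_ ?_
  · rw [morphismRestrict_ι_assoc, hc]
  · rw [IsOpenImmersion.lift_fac_assoc, eval_C]
  · rw [IsOpenImmersion.lift_fac_assoc, eval_C]
  · rw [← cancel_mono V.ι, Category.assoc, morphismRestrict_ι, IsOpenImmersion.lift_fac_assoc, hA]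
  · rw [← cancel_mono V.ι, Category.assoc, morphismRestrict_ι, IsOpenImmersion.lift_fac_assoc, hB]

/-- Pushing forward a point. -/
noncomputable def Pts.map {Y : Scheme.{u}} {g : Y ⟶ Spec (CommRingCat.of k)} (h : X ⟶ Y) (w : h ≫ g = f)
    (A : Pts f K) : Pts g K := ⟨A.1 ≫ h, by rw [Category.assoc, w, A.2]⟩

theorem ElemLink.map {Y : Scheme.{u}} {g : Y ⟶ Spec (CommRingCat.of k)} (h : X ⟶ Y)
    (w : h ≫ g = f) {A B : Pts f K} (H : ElemLink f K A B) :
    ElemLink g K (Pts.map f h w A) (Pts.map f h w B) := by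
  obtain ⟨U, φ, a, b, h1, h2, h3, h4, h5⟩ := H
  refine ⟨U, φ ≫ h, a, b, ?_, h2, h3, ?_, ?_⟩
  · rw [Category.assoc, w, h1]
  · rw [← Category.assoc, h4]; rfl
  · rw [← Category.assoc, h5]; rfl

end Link

end K959.Link
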