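import Groth.Agent.REq.K959.PolyVal
import Groth.Agent.REq.K959.Link
import Mathlib.RingTheory.Derivation.MapCoeffs
import Mathlib.Algebra.Polynomial.Reverse

/-!
# Values along the projective line are constant
-/

set_option autoImplicit false
universe u
open CategoryTheory CategoryTheory.Limits AlgebraicGeometry Opposite TopologicalSpace
open scoped TensorProduct

namespace K959.OmVal

open Groth.Agent.Lefpen.H721.OmegaSec Groth.Agent.Lefpen.H721.OmegaPow Groth.Agent.Sga67.Sec
  Groth.Agent.CurvesB.OmegaStalkDict K959.CtSec K959.Contract K959.ArcGeom K959.Link REq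
  Groth.Agent.CycB.P1Chart

section Poly

variable {k K : Type u} [Field k] [Field K] [Algebra k K]

/-- The derivation of `K[X]` extending a derivation of `K`, with `X ↦ q`. -/
noncomputable def polyDer (D : Derivation k K K) (q : Polynomial K) :
    Derivation k (Polynomial K) (Polynomial K) :=
  PolynomialModule.equivPolynomialSelf.compDer D.mapCoeffs +
    (Polynomial.mkDerivation K q).restrictScalars k

theorem polyDer_apply (D : Derivation k K K) (q p : Polynomial K) :
    polyDer D q p = PolynomialModule.equivPolynomialSelf (D.mapCoeffs p) +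
      Polynomial.mkDerivation K q p := rfl

set_option backward.isDefEq.respectTransparency.types false in
theorem polyDer_C (D : Derivation k K K) (q : Polynomial K) (c : K) :
    polyDer D q (Polynomial.C c) = Polynomial.C (D c) := by
  rw [polyDer_apply, Polynomial.mkDerivation_apply, Polynomial.derivative_C, zero_smul, add_zero]
  ext n
  simp [Polynomial.coeff_C]

set_option backward.isDefEq.respectTransparency.types false in
theorem polyDer_X (D : Derivation k K K) (q : Polynomial K) : polyDer D q Polynomial.X = q := by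
  rw [polyDer_apply, Polynomial.mkDerivation_X, Derivation.mapCoeffs_X, map_zero, zero_add]

variable {S : Type u} [CommRing S] [Algebra k S]

theorem compat_poly (δ : Derivation k (Polynomial K) (Polynomial K)) (ev : Polynomial K →ₐ[k] S)
    (d' : Module.Dual S Ω[S⁄k])
    (hC : ∀ c, d' (KaehlerDifferential.D k S (ev (Polynomial.C c))) = ev (δ (Polynomial.C c)))
    (hX : d' (KaehlerDifferential.D k S (ev Polynomial.X)) = ev (δ Polynomial.X)) (p : Polynomial K) :
    d' (KaehlerDifferential.D k S (ev p)) = ev (δ p) := by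
  have hmul : ∀ x y, d' (KaehlerDifferential.D k S (ev x)) = ev (δ x) →
      d' (KaehlerDifferential.D k S (ev y)) = ev (δ y) →
      d' (KaehlerDifferential.D k S (ev (x * y))) = ev (δ (x * y)) := by
    intro x y hx hy
    rw [map_mul, Derivation.leibniz, Derivation.leibniz, map_add, map_smul, map_smul, hx, hy,
      map_add, smul_eq_mul, smul_eq_mul, smul_eq_mul, smul_eq_mul, map_mul, map_mul]
  induction p using Polynomial.induction_on with
  | C c => exact hC c
  | add x y hx hy => simp only [map_add, hx, hy]
  | monomial n c h =>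
    rw [pow_succ, ← mul_assoc]
    exact hmul _ _ h hX

/-- A polynomial in `X` which is a polynomial in `X⁻¹` is constant. -/
theorem exists_eq_C {F : Type*} [Field F] [Algebra (Polynomial K) F]
    (hF : Function.Injective (algebraMap (Polynomial K) F)) (p q : Polynomial K)
    (h : algebraMap (Polynomial K) F p =
      Polynomial.eval₂ ((algebraMap (Polynomial K) F).comp Polynomial.C)
        (algebraMap (Polynomial K) F Polynomial.X)⁻¹ q) : ∃ c, p = Polynomial.C c := by
  set t := algebraMap (Polynomial K) F Polynomial.X with ht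
  have ht0 : t ≠ 0 := by
    rw [ht]
    exact fun h0 => Polynomial.X_ne_zero (hF (h0.trans (map_zero _).symm))
  let : Invertible t⁻¹ := invertibleOfNonzero (inv_ne_zero ht0)
  have h1 := Polynomial.eval₂_reverse_mul_pow ((algebraMap (Polynomial K) F).comp Polynomial.C) t⁻¹ q
  have h2 : ⅟(t⁻¹) = t := by rw [invOf_eq_inv, inv_inv]
  rw [h2] at h1
  have h3 : Polynomial.eval₂ ((algebraMap (Polynomial K) F).comp Polynomial.C) t q.reverse =
      algebraMap (Polynomial K) F q.reverse := by
    have := Polynomial.hom_eval₂ q.reverse Polynomial.C (algebraMap (Polynomial K) F) Polynomial.X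
    rw [Polynomial.eval₂_C_X] at this
    exact this.symm
  rw [h3, ← h] at h1
  have h4 : q.reverse = p * Polynomial.X ^ q.natDegree := by
    apply hF
    rw [map_mul, ← h1, mul_assoc, map_pow, ← ht, ← mul_pow, inv_mul_cancel₀ ht0, one_pow, mul_one]
  by_cases hp : p = 0
  · exact ⟨0, by rw [hp, map_zero]⟩
  have h5 : p.natDegree + q.natDegree ≤ q.natDegree := by
    have h6 := congrArg Polynomial.natDegree h4
    rw [Polynomial.natDegree_mul_X_pow _ hp] at h6
    rw [← h6]
    exact Polynomial.reverse_natDegree_le q
  exact ⟨p.coeff 0, Polynomial.eq_C_of_natDegree_eq_zero (by omega)⟩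

end Poly

section Main

variable {k : Type u} [Field k] {X : Scheme.{u}} (f : X ⟶ Spec (CommRingCat.of k))
  {i : ℕ} {L : X.Modules}
  (e : ∀ W : X.affineOpens, ⋀[SA f W.1]^i Ω[SA f W.1⁄k] ≃ₗ[SA f W.1] Γ(L, W.1))
  (he : ∀ (W W' : X.affineOpens) (h : W'.1 ≤ W.1) (x : ⋀[SA f W.1]^i Ω[SA f W.1⁄k]),
        L.presheaf.map (homOfLE h).op (e W x) = e W' (powS (resA f h) i x))
  (hgood : ∀ W : X.affineOpens, Good L W.1) {n : ℕ} (α : Sec (CohB1.tensorPow L n) (⊤ : X.Opens))
  {K : Type u} [Field K] [Algebra k K] (h : P1K K ⟶ X)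
  (hh : h ≫ f = P1K.toSpec K ≫ specMap k K)

include he hh in
theorem isVal_chart (ι : Fin (1 + 1)) (a b : K) (d : ℕ → Fin i → Module.Dual K Ω[K⁄k]) (v : K)
    (hv : IsVal f e hgood α
      (Spec.map (CommRingCat.ofHom (Polynomial.evalRingHom a)) ≫ jA K ι ≫ h) d v) :
    IsVal f e hgood α
      (Spec.map (CommRingCat.ofHom (Polynomial.evalRingHom b)) ≫ jA K ι ≫ h) d v := by
  by_cases hab : a = b
  · subst hab; exact hv
  have hba : b - a ≠ 0 := sub_ne_zero.mpr (Ne.symm hab)
  let D : ℕ → Fin i → Derivation k K K := fun j l => (d j l).compDer (KaehlerDifferential.D k K)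
  have hD : ∀ j l c, D j l c = d j l (KaehlerDifferential.D k K c) := fun j l c => rfl
  let q1 : ℕ → Fin i → K := fun j l => (D j l b - D j l a) / (b - a)
  let q0 : ℕ → Fin i → K := fun j l => D j l a - q1 j l * a
  let δ0 : ℕ → Fin i → Derivation k (Polynomial K) (Polynomial K) := fun j l =>
    polyDer (D j l) (Polynomial.C (q0 j l) + Polynomial.C (q1 j l) * Polynomial.X)
  let δ1 : ℕ → Fin i → Derivation k (Polynomial K) (Polynomial K) := fun j l =>
    polyDer (D j l) (-(Polynomial.C (q0 j l) * Polynomial.X ^ 2 + Polynomial.C (q1 j l) * Polynomial.X))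
  have hc : ∀ ι : Fin (1 + 1), (jA K ι ≫ h) ≫ f =
      Spec.map (CommRingCat.ofHom (algebraMap k (Polynomial K))) := by
    intro ι
    rw [Category.assoc, hh, jA_toSpec_assoc, ← Spec.map_comp, ← CommRingCat.ofHom_comp]
  obtain ⟨w0, hw0⟩ := exists_val_of_domain f e he hgood α (jA K ι ≫ h) (hc ι)
    (fun j l => (δ0 j l).liftKaehlerDifferential)
  obtain ⟨w1, hw1⟩ := exists_val_of_domain f e he hgood α (jA K (ι + 1) ≫ h) (hc (ι + 1))
    (fun j l => (δ1 j l).liftKaehlerDifferential)
  simp only [Derivation.liftKaehlerDifferential_comp_D] at hw0 hw1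
  -- the value at a point of the chart
  have hpt : ∀ s : K, (∀ j l, D j l s = q0 j l + q1 j l * s) →
      IsVal f e hgood α
        (Spec.map (CommRingCat.ofHom (Polynomial.evalRingHom s)) ≫ jA K ι ≫ h) d (w0.eval s) := by
    intro s hs
    let ev : Polynomial K →ₐ[k] K :=
      { Polynomial.evalRingHom s with
        commutes' := fun c => by
          change Polynomial.eval s (algebraMap k (Polynomial K) c) = _
          rw [Polynomial.algebraMap_apply, Polynomial.eval_C] }
    have hev : ∀ p, ev p = p.eval s := fun p => rfl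
    refine hw0 K ev d (fun j l => compat_poly (δ0 j l) ev (d j l) (fun c => ?_) ?_)
    · change d j l (KaehlerDifferential.D k K (ev (Polynomial.C c))) =
        ev (polyDer (D j l) _ (Polynomial.C c))
      rw [polyDer_C, hev, hev, Polynomial.eval_C, Polynomial.eval_C, hD]
    · change d j l (KaehlerDifferential.D k K (ev Polynomial.X)) =
        ev (polyDer (D j l) _ Polynomial.X)
      rw [polyDer_X, hev, hev, Polynomial.eval_X, ← hD, hs]
      simp
  have ha := hpt a (fun j l => by simp only [q0]; ring)
  have hb := hpt b (fun j l => by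
    simp only [q0, q1]
    field_simp
    ring)
  -- comparison of the two charts at the generic point
  let F := FractionRing (Polynomial K)
  let t : F := algebraMap (Polynomial K) F Polynomial.X
  have hinj : Function.Injective (algebraMap (Polynomial K) F) := IsFractionRing.injective _ _
  have ht0 : t ≠ 0 := fun h0 => Polynomial.X_ne_zero (hinj (h0.trans (map_zero _).symm))
  let ev0 : Polynomial K →ₐ[k] F := IsScalarTower.toAlgHom k (Polynomial K) F
  let ev1 : Polynomial K →ₐ[k] F :=
    { Polynomial.eval₂RingHom ((algebraMap (Polynomial K) F).comp Polynomial.C) t⁻¹ with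
      commutes' := fun c => by
        change Polynomial.eval₂ _ _ (algebraMap k (Polynomial K) c) = _
        rw [Polynomial.algebraMap_apply, Polynomial.eval₂_C,
          IsScalarTower.algebraMap_apply k (Polynomial K) F c, Polynomial.algebraMap_apply]
        rfl }
  have hev1 : ∀ p, ev1 p = Polynomial.eval₂ ((algebraMap (Polynomial K) F).comp Polynomial.C) t⁻¹ p :=
    fun p => rfl
  choose dF hdF using fun (j : ℕ) (l : Fin i) =>
    exists_extend (S' := F) (nonZeroDivisors (Polynomial K)) ((δ0 j l).liftKaehlerDifferential)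
  simp only [Derivation.liftKaehlerDifferential_comp_D] at hdF
  have h0 := hw0 F ev0 dF (fun j l a => hdF j l a)
  have hev1C : ∀ c, ev1 (Polynomial.C c) = algebraMap (Polynomial K) F (Polynomial.C c) := fun c => by
    rw [hev1, Polynomial.eval₂_C]
    rfl
  have h1 := hw1 F ev1 dF (fun j l => compat_poly (δ1 j l) ev1 (dF j l) (fun c => by
    change _ = ev1 (polyDer (D j l) _ (Polynomial.C c))
    rw [polyDer_C, hev1C, hev1C, hdF]
    change algebraMap (Polynomial K) F (polyDer (D j l) _ (Polynomial.C c)) = _
    rw [polyDer_C]) (by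
    change _ = ev1 (polyDer (D j l) _ Polynomial.X)
    have h3 : dF j l (KaehlerDifferential.D k F t) =
        algebraMap (Polynomial K) F (Polynomial.C (q0 j l)) +
          algebraMap (Polynomial K) F (Polynomial.C (q1 j l)) * t := by
      rw [hdF]
      change algebraMap (Polynomial K) F (polyDer (D j l) _ Polynomial.X) = _
      rw [polyDer_X, map_add, map_mul]
    have h4 : dF j l (KaehlerDifferential.D k F t⁻¹) =
        -t⁻¹ ^ 2 * dF j l (KaehlerDifferential.D k F t) :=
      ((dF j l).compDer (KaehlerDifferential.D k F)).leibniz_inv t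
    have h5 : ev1 Polynomial.X = t⁻¹ := by rw [hev1, Polynomial.eval₂_X]
    rw [polyDer_X, h5, h4, h3, map_neg, map_add, map_mul, map_mul, map_pow, hev1C, hev1C, h5]
    have h6 : t⁻¹ * t = 1 := inv_mul_cancel₀ ht0
    linear_combination (-(algebraMap (Polynomial K) F (Polynomial.C (q1 j l)) * t⁻¹)) * h6))
  have hgen : Spec.map (CommRingCat.ofHom (ev0 : Polynomial K →+* F)) ≫ jA K ι =
      Spec.map (CommRingCat.ofHom (ev1 : Polynomial K →+* F)) ≫ jA K (ι + 1) := by
    unfold jA
    rw [map_pt, map_pt, ← Spec.map_comp, ← Spec.map_comp, ← CommRingCat.ofHom_comp,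
      ← CommRingCat.ofHom_comp]
    have h3 : (ev1 : Polynomial K →+* F).comp Polynomial.C = (ev0 : Polynomial K →+* F).comp Polynomial.C := by
      ext c
      exact hev1C c
    rw [h3]
    refine pt_inv ι _ ?_
    change t * ev1 Polynomial.X = 1
    rw [hev1, Polynomial.eval₂_X, mul_inv_cancel₀ ht0]
  have h2 : ev0 w0 = ev1 w1 := by
    rw [← Category.assoc, ← hgen, Category.assoc] at h1
    exact h0.unique f e he hgood α h1
  obtain ⟨c, rfl⟩ := exists_eq_C hinj w0 w1 h2
  rw [Polynomial.eval_C] at ha hb
  rw [hv.unique f e he hgood α ha]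
  exact hb

end Main

end K959.OmVal
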