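import Groth.Agent.Lefpen.H721.OmegaPow
import Mathlib.LinearAlgebra.ExteriorPower.Basis
import Mathlib.RingTheory.Kaehler.TensorProduct
import Mathlib.RingTheory.Etale.Kaehler

/-!
# Determinantal functionals on exterior powers of Kähler differentials
-/

set_option autoImplicit false

namespace K959.Contract

open Groth.Agent.Lefpen.H721.OmegaPow Groth.Agent.Krr.H495.ExtSemi

section General

variable {R S : Type*} [CommRing R] [CommRing S] {M N : Type*} [AddCommGroup M] [Module R M]
  [AddCommGroup N] [Module S N]

/-- The determinantal functional of a family of functionals. -/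
noncomputable def lamG {i : ℕ} (d : Fin i → Module.Dual R M) : Module.Dual R (⋀[R]^i M) :=
  exteriorPower.pairingDual R M i (exteriorPower.ιMulti R i d)

theorem lamG_ιMulti {i : ℕ} (d : Fin i → Module.Dual R M) (m : Fin i → M) :
    lamG d (exteriorPower.ιMulti R i m) = Matrix.det (Matrix.of (fun a b => d b (m a))) :=
  exteriorPower.pairingDual_ιMulti_ιMulti d m

theorem lamG_zero {i : ℕ} (hi : 0 < i) : lamG (0 : Fin i → Module.Dual R M) = 0 := by
  unfold lamG
  have : exteriorPower.ιMulti R i (0 : Fin i → Module.Dual R M) = 0 := by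
    have : Nonempty (Fin i) := ⟨⟨0, hi⟩⟩
    exact (exteriorPower.ιMulti R i).toMultilinearMap.map_zero
  rw [this, map_zero]

theorem lamG_extS {i : ℕ} {ρ : R →+* S} (g : M →ₛₗ[ρ] N) (d : Fin i → Module.Dual R M)
    (d' : Fin i → Module.Dual S N) (h : ∀ l x, d' l (g x) = ρ (d l x)) (x : ⋀[R]^i M) :
    lamG d' (extS i g x) = ρ (lamG d x) := by
  let F : ⋀[R]^i M →ₛₗ[ρ] S := (lamG d').comp (extS i g)
  let G : ⋀[R]^i M →ₛₗ[ρ] S :=
    { toFun := fun x => ρ (lamG d x)
      map_add' := fun x y => by rw [map_add, map_add]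
      map_smul' := fun c x => by rw [map_smul, smul_eq_mul, map_mul]; rfl }
  have : F = G := by
    apply extS_hom_ext
    intro m
    change lamG d' (extS i g _) = ρ (lamG d _)
    rw [extS_ιMulti, lamG_ιMulti, lamG_ιMulti, RingHom.map_det]
    congr 1
    ext a b
    exact h b (m a)
  exact DFunLike.congr_fun this x

end General

section Kaehler

variable {k S S' : Type*} [CommRing k] [CommRing S] [CommRing S'] [Algebra k S] [Algebra k S']

/-- The determinantal functional on `⋀^i Ω`. -/
noncomputable abbrev lam {i : ℕ} (d : Fin i → Module.Dual S Ω[S⁄k]) :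
    Module.Dual S (⋀[S]^i Ω[S⁄k]) := lamG d

theorem lam_powS {i : ℕ} (φ : S →ₐ[k] S') (d : Fin i → Module.Dual S Ω[S⁄k])
    (d' : Fin i → Module.Dual S' Ω[S'⁄k]) (h : ∀ l x, d' l (omS φ x) = φ (d l x))
    (x : ⋀[S]^i Ω[S⁄k]) : lam d' (powS φ i x) = φ (lam d x) :=
  lamG_extS (omS φ) d d' h x

/-- Compatibility of functionals can be checked on exact differentials. -/
theorem compat_iff (φ : S →ₐ[k] S') (d : Module.Dual S Ω[S⁄k]) (d' : Module.Dual S' Ω[S'⁄k]) :
    (∀ x, d' (omS φ x) = φ (d x)) ↔
      ∀ a : S, d' (KaehlerDifferential.D k S' (φ a)) = φ (d (KaehlerDifferential.D k S a)) := by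
  constructor
  · intro h a
    rw [← h, omS_D]
  · intro h x
    let F : Ω[S⁄k] →ₛₗ[(φ : S →+* S')] S' := LinearMap.comp d' (omS φ)
    let G : Ω[S⁄k] →ₛₗ[(φ : S →+* S')] S' :=
      { toFun := fun x => φ (d x)
        map_add' := fun x y => by rw [map_add, map_add]
        map_smul' := fun c x => by rw [map_smul, smul_eq_mul, map_mul]; rfl }
    have : F = G := by
      apply omS_hom_ext
      intro a
      change d' (omS φ _) = φ (d _)
      rw [omS_D, h]
    exact DFunLike.congr_fun this x

/-- Functionals on differentials extend to a localization. -/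
theorem exists_extend [Algebra S S'] [IsScalarTower k S S'] (M : Submonoid S) [IsLocalization M S']
    (d : Module.Dual S Ω[S⁄k]) : ∃ d' : Module.Dual S' Ω[S'⁄k],
      ∀ a : S, d' (KaehlerDifferential.D k S' (algebraMap S S' a)) =
        algebraMap S S' (d (KaehlerDifferential.D k S a)) := by
  have := Algebra.FormallyEtale.of_isLocalization (Rₘ := S') M
  have hb := KaehlerDifferential.isBaseChange_of_formallyEtale k S S'
  refine ⟨hb.lift ((Algebra.linearMap S S').comp d), fun a => ?_⟩
  have h := hb.lift_eq ((Algebra.linearMap S S').comp d) (KaehlerDifferential.D k S a)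
  rw [KaehlerDifferential.map_D] at h
  exact h

/-- Functionals on the differentials of a localization are determined by the values on the base. -/
theorem ext_of_localization [Algebra S S'] [IsScalarTower k S S'] (M : Submonoid S)
    [IsLocalization M S'] (d d' : Module.Dual S' Ω[S'⁄k])
    (h : ∀ a : S, d (KaehlerDifferential.D k S' (algebraMap S S' a)) =
      d' (KaehlerDifferential.D k S' (algebraMap S S' a))) : d = d' := by
  apply LinearMap.ext_on (KaehlerDifferential.span_range_map_derivation_of_isLocalization k S S' M)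
  rintro _ ⟨a, rfl⟩
  rw [Function.comp_apply, KaehlerDifferential.map_D]
  exact h a

end Kaehler

end K959.Contract
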