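import Groth.Agent.Sga67.Sec

/-!
# Evaluating sections of tensor powers on functionals

`L` a module on `X`, `W` an open over which `tau` is bijective for the tensor powers of `L`,
`φ : Γ(X, W) → S` a ring homomorphism and `ℓ j : L(W) → S` semilinear: `ct` is the induced semilinear
map `L^{⊗ n}(W) → S`.
-/

set_option autoImplicit false
universe u

open CategoryTheory CategoryTheory.Limits AlgebraicGeometry Opposite TopologicalSpace
open scoped TensorProduct
open Groth.Agent.Sga67.Sec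

namespace K959.CtSec

variable {X : Scheme.{u}} {L : X.Modules}

/-- `tau` is bijective over `W` for the tensor powers of `L`. -/
def Good (L : X.Modules) (W : X.Opens) : Prop :=
  ∀ n : ℕ, Function.Bijective (tau (CohB1.tensorPow L n) L W)

/-- The product of two semilinear maps. -/
noncomputable def mulPair {R S : Type*} [CommRing R] [CommRing S] {φ : R →+* S} {M N : Type*}
    [AddCommGroup M] [Module R M] [AddCommGroup N] [Module R N] (f : M →ₛₗ[φ] S) (g : N →ₛₗ[φ] S) :
    M ⊗[R] N →ₛₗ[φ] S :=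
  TensorProduct.lift (LinearMap.mk₂'ₛₗ φ φ (fun x y => f x * g y)
    (fun x y z => by rw [map_add, add_mul])
    (fun c x y => by rw [LinearMap.map_smulₛₗ, smul_eq_mul, smul_eq_mul, mul_assoc])
    (fun x y z => by rw [map_add, mul_add])
    (fun c x y => by rw [LinearMap.map_smulₛₗ, smul_eq_mul, smul_eq_mul]; ring))

@[simp]
theorem mulPair_tmul {R S : Type*} [CommRing R] [CommRing S] {φ : R →+* S} {M N : Type*}
    [AddCommGroup M] [Module R M] [AddCommGroup N] [Module R N] (f : M →ₛₗ[φ] S) (g : N →ₛₗ[φ] S)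
    (x : M) (y : N) : mulPair f g (x ⊗ₜ y) = f x * g y := rfl

variable {W : X.Opens} (hW : Good L W) {S : Type*} [CommRing S]

/-- The semilinear map on sections of the tensor power. -/
noncomputable def ct (φ : Γ(X, W) →+* S) (ℓ : ℕ → (Sec L W →ₛₗ[φ] S)) :
    (n : ℕ) → (Sec (CohB1.tensorPow L n) W →ₛₗ[φ] S)
  | 0 =>
    { toFun := fun a => φ a
      map_add' := fun a b => map_add φ a b
      map_smul' := fun a b => map_mul φ a b }
  | n + 1 => (mulPair (ct φ ℓ n) (ℓ n)).comp
      (LinearEquiv.ofBijective (tau (CohB1.tensorPow L n) L W) (hW n)).symm.toLinearMap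

theorem ct_zero (φ : Γ(X, W) →+* S) (ℓ : ℕ → (Sec L W →ₛₗ[φ] S)) (a : Γ(X, W)) :
    ct hW φ ℓ 0 (show Sec (CohB1.tensorPow L 0) W from a) = φ a := rfl

theorem ct_succ_tau (φ : Γ(X, W) →+* S) (ℓ : ℕ → (Sec L W →ₛₗ[φ] S)) (n : ℕ)
    (t : Sec (CohB1.tensorPow L n) W ⊗[Γ(X, W)] Sec L W) :
    ct hW φ ℓ (n + 1) (tau (CohB1.tensorPow L n) L W t) = mulPair (ct hW φ ℓ n) (ℓ n) t := by
  change mulPair (ct hW φ ℓ n) (ℓ n)
    ((LinearEquiv.ofBijective (tau (CohB1.tensorPow L n) L W) (hW n)).symm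
      ((LinearEquiv.ofBijective (tau (CohB1.tensorPow L n) L W) (hW n)) t)) = _
  rw [LinearEquiv.symm_apply_apply]

/-- Compatibility with restriction. -/
theorem ct_res {W' : X.Opens} (hW' : Good L W') (h : W' ≤ W) (φ : Γ(X, W) →+* S)
    (ℓ : ℕ → (Sec L W →ₛₗ[φ] S)) (φ' : Γ(X, W') →+* S) (ℓ' : ℕ → (Sec L W' →ₛₗ[φ'] S))
    (hφ : ∀ a, φ' (resO X h a) = φ a) (hℓ : ∀ j s, ℓ' j (res L h s) = ℓ j s) (n : ℕ)
    (s : Sec (CohB1.tensorPow L n) W) :
    ct hW' φ' ℓ' n (res (CohB1.tensorPow L n) h s) = ct hW φ ℓ n s := by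
  induction n with
  | zero => exact hφ s
  | succ n ih =>
    obtain ⟨t, rfl⟩ := (hW n).2 s
    have h1 : res (CohB1.tensorPow L (n + 1)) h (tau (CohB1.tensorPow L n) L W t) =
        tau (CohB1.tensorPow L n) L W' (tres (CohB1.tensorPow L n) L h t) :=
      (tau_tres (CohB1.tensorPow L n) L h t).symm
    rw [ct_succ_tau]
    refine (congrArg (ct hW' φ' ℓ' (n + 1)) h1).trans ?_
    rw [ct_succ_tau]
    induction t using TensorProduct.induction_on with
    | zero => simp only [map_zero]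
    | add x y hx hy => simp only [map_add, hx (tau_tres _ _ h x).symm, hy (tau_tres _ _ h y).symm]
    | tmul x y => rw [tres_tmul, mulPair_tmul, mulPair_tmul, ih, hℓ]

/-- Compatibility with homomorphisms of the coefficients. -/
theorem ct_map {S' : Type*} [CommRing S'] (φ : Γ(X, W) →+* S)
    (ℓ : ℕ → (Sec L W →ₛₗ[φ] S)) (ψ : S →+* S') (φ' : Γ(X, W) →+* S') (hφ : ∀ a, φ' a = ψ (φ a))
    (ℓ' : ℕ → (Sec L W →ₛₗ[φ'] S')) (hℓ : ∀ j s, ℓ' j s = ψ (ℓ j s)) (n : ℕ)
    (s : Sec (CohB1.tensorPow L n) W) : ct hW φ' ℓ' n s = ψ (ct hW φ ℓ n s) := by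
  induction n with
  | zero => exact hφ s
  | succ n ih =>
    obtain ⟨t, rfl⟩ := (hW n).2 s
    rw [ct_succ_tau, ct_succ_tau]
    induction t using TensorProduct.induction_on with
    | zero => simp only [map_zero]
    | add x y hx hy => simp only [map_add, hx, hy]
    | tmul x y => rw [mulPair_tmul, mulPair_tmul, map_mul, ih, hℓ]

/-- Vanishing if one of the functionals vanishes. -/
theorem ct_eq_zero (φ : Γ(X, W) →+* S) (ℓ : ℕ → (Sec L W →ₛₗ[φ] S)) (n : ℕ) (h : ℓ n = 0)
    (s : Sec (CohB1.tensorPow L (n + 1)) W) : ct hW φ ℓ (n + 1) s = 0 := by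
  obtain ⟨t, rfl⟩ := (hW n).2 s
  rw [ct_succ_tau]
  induction t using TensorProduct.induction_on with
  | zero => simp only [map_zero]
  | add x y hx hy => rw [map_add, hx, hy, add_zero]
  | tmul x y => rw [mulPair_tmul, h, LinearMap.zero_apply, mul_zero]

theorem ct_congr (φ : Γ(X, W) →+* S) (ℓ ℓ' : ℕ → (Sec L W →ₛₗ[φ] S)) (n : ℕ)
    (h : ∀ j < n, ℓ j = ℓ' j) : ct hW φ ℓ n = ct hW φ ℓ' n := by
  induction n with
  | zero => rfl
  | succ n ih =>
    unfold ct
    rw [ih (fun j hj => h j (hj.trans (Nat.lt_succ_self n))), h n (Nat.lt_succ_self n)]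

theorem mulPair_coord {R : Type*} [CommRing R] {M N : Type*} [AddCommGroup M] [Module R M]
    [AddCommGroup N] [Module R N] {ι : Type*} [DecidableEq ι] (B : Module.Basis ι R N)
    (f : M →ₗ[R] R) (i : ι) (t : M ⊗[R] N) :
    mulPair (φ := RingHom.id R) f (B.coord i) t =
      f (TensorProduct.equivFinsuppOfBasisRight B t i) := by
  induction t using TensorProduct.induction_on with
  | zero => simp
  | add x y hx hy => simp only [map_add, Finsupp.add_apply, hx, hy]
  | tmul x y =>
    rw [mulPair_tmul, TensorProduct.equivFinsuppOfBasisRight_apply_tmul_apply, map_smul, smul_eq_mul,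
      mul_comm]
    rfl

/-- A set of functionals containing the coordinates of a basis detects sections. -/
theorem eq_zero_of_basis {ι : Type*} (B : Module.Basis ι Γ(X, W) (Sec L W))
    (F : Set (Sec L W →ₗ[Γ(X, W)] Γ(X, W))) (hF : F.Nonempty) (hB : ∀ i, B.coord i ∈ F) (n : ℕ)
    (s : Sec (CohB1.tensorPow L n) W)
    (h : ∀ ℓ : ℕ → (Sec L W →ₗ[Γ(X, W)] Γ(X, W)), (∀ j, ℓ j ∈ F) →
      ct hW (RingHom.id Γ(X, W)) ℓ n s = 0) : s = 0 := by
  classical
  induction n with
  | zero =>
    obtain ⟨g, hg⟩ := hF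
    exact h (fun _ => g) (fun _ => hg)
  | succ n ih =>
    obtain ⟨t, rfl⟩ := (hW n).2 s
    have ht : t = 0 := by
      apply (TensorProduct.equivFinsuppOfBasisRight B).injective
      rw [map_zero]
      ext i
      rw [Finsupp.zero_apply]
      apply ih
      intro ℓ hℓ
      have h1 := h (Function.update ℓ n (B.coord i)) (fun j => by
        by_cases hj : j = n
        · subst hj; rw [Function.update_self]; exact hB i
        · rw [Function.update_of_ne hj]; exact hℓ j)
      rw [ct_succ_tau, Function.update_self, mulPair_coord,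
        ct_congr hW (RingHom.id Γ(X, W)) (Function.update ℓ n (B.coord i)) ℓ n
          (fun j hj => Function.update_of_ne hj.ne _ _)] at h1
      exact h1
    rw [ht, map_zero]
    rfl

end K959.CtSec
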