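import Groth.Agent.REq.K959.Link
import Groth.Agent.Sga4B.P1Curve441
import Groth.Agent.S4440
import Groth.Agent.S1535

/-!
Morphisms from a nonempty open of the projective line over a field to a proper scheme extend.
-/

set_option autoImplicit false
universe u
open CategoryTheory CategoryTheory.Limits AlgebraicGeometry

namespace K959.ExtP1

open REq

theorem ringKrullDim_stalk_le (X : Scheme.{u}) (x : X) :
    ringKrullDim (X.presheaf.stalk x) ≤ topologicalKrullDim X := by
  obtain ⟨V, hV, hx, -⟩ := exists_isAffineOpen_mem_and_subset (X := X) (x := x) (U := ⊤) trivial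
  let := TopCat.Presheaf.algebra_section_stalk X.presheaf (⟨x, hx⟩ : V)
  have hloc : IsLocalization.AtPrime (X.presheaf.stalk x) (hV.primeIdealOf ⟨x, hx⟩).asIdeal :=
    hV.isLocalization_stalk ⟨x, hx⟩
  rw [IsLocalization.AtPrime.ringKrullDim_eq_height (hV.primeIdealOf ⟨x, hx⟩).asIdeal]
  refine (Ideal.height_le_ringKrullDim_of_ne_top (hV.primeIdealOf ⟨x, hx⟩).2.ne_top).trans ?_
  have h : topologicalKrullDim (V : Set X) = ringKrullDim Γ(X, V) := by
    rw [← PrimeSpectrum.topologicalKrullDim_eq_ringKrullDim]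
    change _ = topologicalKrullDim (Spec Γ(X, V))
    exact IsHomeomorph.topologicalKrullDim_eq _ hV.isoSpec.hom.homeomorph.isHomeomorph
  rw [← h]
  exact topologicalKrullDim_subspace_le _ _

section

variable {k K : Type u} [Field k] [Field K] [Algebra k K] {X : Scheme.{u}}
  (f : X ⟶ Spec (CommRingCat.of k)) [IsProper f]

/-- A morphism from a nonempty open of the projective line to a proper scheme extends. -/
theorem exists_extend (U : (P1K K).Opens) (hU : (U : Set (P1K K)).Nonempty)
    (h : (U : Scheme.{u}) ⟶ X) (hh : h ≫ f = U.ι ≫ P1K.toSpec K ≫ specMap k K) :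
    ∃ h' : P1K K ⟶ X, h' ≫ f = P1K.toSpec K ≫ specMap k K ∧ U.ι ≫ h' = h := by
  have hint : IsIntegral (P1K K) := Groth.Agent.Sga4B.P1Curve.isIntegral_projLine K
  obtain ⟨h1, h2, h3, h4⟩ := Groth.Agent.Sga4B.P1Curve.isSmoothProperCurve_projLine K
  have hN : IsLocallyNoetherian (P1K K) := LocallyOfFiniteType.isLocallyNoetherian (P1K.toSpec K)
  have hreg : ∀ y : P1K K, IsRegularLocalRing ((P1K K).presheaf.stalk y) := by
    intro y
    let : (P1K K).Over (Spec (CommRingCat.of K)) := ⟨P1K.toSpec K⟩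
    have : Smooth ((P1K K) ↘ (Spec (CommRingCat.of K))) := h2
    exact Groth.Agent.S1535.result K (P1K K) y
  have hd : Dense (U : Set (P1K K)) := U.2.dense hU
  obtain ⟨U', hUU', g', hg', hg'', hall⟩ := Groth.Agent.S4440.result f (P1K.toSpec K ≫ specMap k K)
    (fun y _ => hreg y) U hd h hh
  have htop : U' = ⊤ := by
    rw [eq_top_iff]
    intro y _
    exact hall y ((ringKrullDim_stalk_le _ y).trans h4.le)
  subst htop
  refine ⟨(Scheme.topIso (P1K K)).inv ≫ g', ?_, ?_⟩
  · rw [Category.assoc, hg']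
    exact (Scheme.topIso (P1K K)).inv_hom_id_assoc _
  · rw [← hg'', ← Category.assoc]
    congr 1
    rw [Iso.comp_inv_eq]
    exact ((P1K K).homOfLE_ι _).symm

end

end K959.ExtP1
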