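import Groth.Agent.Sga7.H301.LimHom
import Groth.Agent.Sga4B.P1Geom441
import Groth.Prelude.Def_W4c5nonratstablectREq

/-!
Spreading out morphisms from the generic fibre: `R` a domain with fraction field `K`.
-/

set_option autoImplicit false
universe u
open CategoryTheory CategoryTheory.Limits AlgebraicGeometry

namespace K959.SpreadP1

open Groth.Agent.Sga7.H301.PGrp P1 Groth.Agent.Sga4B.P1Geom REq

variable {R K : Type u} [CommRing R] [IsDomain R] [Field K] [Algebra R K] [IsFractionRing R K]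

set_option backward.isDefEq.respectTransparency false in
theorem spread {Z Y Z' : Scheme.{u}} (z : Z ⟶ Spec (CommRingCat.of R)) [QuasiCompact z]
    [QuasiSeparated z] (y : Y ⟶ Spec (CommRingCat.of R)) [LocallyOfFinitePresentation y]
    (z' : Z' ⟶ Spec (CommRingCat.of K)) (a : Z' ⟶ Z) (h : IsPullback a z' z (loc R K))
    (φ' : Z' ⟶ Y) (w : φ' ≫ y = z' ≫ loc R K) :
    ∃ m : R, m ≠ 0 ∧ ∀ (W : Scheme.{u}) (b : W ⟶ Z), (∀ x, z (b x) ∈ bo m) →
      ∃ c : W ⟶ Y, c ≫ y = b ≫ z ∧ ∀ (W' : Scheme.{u}) (t : W' ⟶ W) (b' : W' ⟶ Z'),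
        t ≫ b = b' ≫ a → t ≫ c = b' ≫ φ' := by
  have h1 : QuasiCompact (Over.mk z).hom := ‹QuasiCompact z›
  have h2 : QuasiSeparated (Over.mk z).hom := ‹QuasiSeparated z›
  have h3 : LocallyOfFinitePresentation (Over.mk y).hom := ‹LocallyOfFinitePresentation y›
  obtain ⟨m, hm, φ, hφ⟩ := exists_extend (M := nonZeroDivisors R) (Z := Over.mk z) (Y := Over.mk y)
    (Z' := Over.mk z') (a := a) K h
    (Over.homMk (U := (Over.map (loc R K)).obj (Over.mk z')) (V := Over.mk y) φ' w)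
  refine ⟨m, nonZeroDivisors.ne_zero hm, fun W b hb => ?_⟩
  let WW : Over (Spec (CommRingCat.of R)) := Over.mk (b ≫ z)
  have hW : Lies (bo m : Set (Spec (CommRingCat.of R))) WW := fun x => by
    have := hb x
    simpa [WW] using this
  let bb : WW ⟶ Over.mk z := Over.homMk b rfl
  refine ⟨(opnLift hW bb ≫ φ).left, Over.w (opnLift hW bb ≫ φ), fun W' t b' htb => ?_⟩
  let W2 : Over (Spec (CommRingCat.of R)) := Over.mk (t ≫ b ≫ z)
  have hW2 : Lies (bo m : Set (Spec (CommRingCat.of R))) W2 := fun x => by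
    have := hb (t x)
    simpa [W2] using this
  let tt : W2 ⟶ WW := Over.homMk t rfl
  let s : W2 ⟶ (Over.map (loc R K)).obj (Over.mk z') := Over.homMk b' (by
    change b' ≫ z' ≫ loc R K = t ≫ b ≫ z
    rw [← h.w, reassoc_of% htb])
  have e1 : s ≫ toS h (𝟙 (Over.mk z')) = tt ≫ bb := by
    ext1
    change b' ≫ (𝟙 _ ≫ a) = t ≫ b
    rw [Category.id_comp, htb]
  have e2 : tt ≫ opnLift hW bb ≫ φ =
      s ≫ Over.homMk (U := (Over.map (loc R K)).obj (Over.mk z')) (V := Over.mk y) φ' w := by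
    rw [← hφ, ← Category.assoc, comp_opnLift hW hW2, ← Category.assoc,
      comp_opnLift _ hW2, e1]
  exact congrArg CommaMorphism.left e2

theorem toP1_comp {S S' S'' : Scheme.{u}} (f : S ⟶ S') (g : S' ⟶ S'') :
    toP1 f ≫ toP1 g = toP1 (f ≫ g) := by
  apply Groth.Agent.CycB.P1Chart.hom_ext
  · rw [Category.assoc, toP1_toZ, toP1_toZ, toP1_toZ]
  · rw [Category.assoc, toP1_toBase, toP1_toBase, toP1_toBase_assoc]

variable {k : Type u} [Field k] {X : Scheme.{u}}
  (f : X ⟶ Spec (CommRingCat.of k)) [LocallyOfFinitePresentation f]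
  (g : Spec (CommRingCat.of R) ⟶ Spec (CommRingCat.of k))

/-- Spreading out a morphism from the projective line over `K`. -/
theorem spread_P1 (h : P1K K ⟶ X) (w : h ≫ f = P1K.toSpec K ≫ loc R K ≫ g) :
    ∃ m : R, m ≠ 0 ∧ ∀ (T : Scheme.{u}) (i : T ⟶ Spec (CommRingCat.of R)), (∀ t, i t ∈ bo m) →
      ∃ H : CohB1.ProjSpaceOver 1 T ⟶ X, H ≫ f = CohB1.ProjSpaceOver.toBase 1 T ≫ i ≫ g ∧
        ∀ e : Spec (CommRingCat.of K) ⟶ T, e ≫ i = loc R K → toP1 e ≫ H = h := by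
  obtain ⟨m, hm, H⟩ := spread (R := R) (K := K) (CohB1.ProjSpaceOver.toBase 1 (Spec (CommRingCat.of R)))
    (pullback.snd f g) (P1K.toSpec K) (toP1 (loc R K)) (isPullback_toP1 (loc R K))
    (pullback.lift h (P1K.toSpec K ≫ loc R K) (by rw [w, Category.assoc]))
    (pullback.lift_snd _ _ _)
  refine ⟨m, hm, fun T i hi => ?_⟩
  obtain ⟨c, hc1, hc2⟩ := H (CohB1.ProjSpaceOver 1 T) (toP1 i) (fun x => by
    rw [← Scheme.Hom.comp_apply, toP1_toBase, Scheme.Hom.comp_apply]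
    exact hi _)
  refine ⟨c ≫ pullback.fst f g, ?_, fun e he => ?_⟩
  · rw [Category.assoc, pullback.condition, reassoc_of% hc1, toP1_toBase_assoc]
  · have h1 := hc2 (P1K K) (toP1 e) (𝟙 _) (by
      rw [Category.id_comp, toP1_comp, he])
    rw [reassoc_of% h1, pullback.lift_fst]

/-- Spreading out a section of the projective line over `K`. -/
theorem spread_section (a : Spec (CommRingCat.of K) ⟶ P1K K) (ha : a ≫ P1K.toSpec K = 𝟙 _) :
    ∃ m : R, m ≠ 0 ∧ ∀ (T : Scheme.{u}) (i : T ⟶ Spec (CommRingCat.of R)), (∀ t, i t ∈ bo m) →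
      ∃ a' : T ⟶ CohB1.ProjSpaceOver 1 T, a' ≫ CohB1.ProjSpaceOver.toBase 1 T = 𝟙 T ∧
        ∀ e : Spec (CommRingCat.of K) ⟶ T, e ≫ i = loc R K → e ≫ a' = a ≫ toP1 e := by
  obtain ⟨m, hm, H⟩ := spread (R := R) (K := K) (𝟙 (Spec (CommRingCat.of R)))
    (CohB1.ProjSpaceOver.toBase 1 (Spec (CommRingCat.of R))) (𝟙 (Spec (CommRingCat.of K)))
    (loc R K) (IsPullback.of_vert_isIso ⟨by simp⟩) (a ≫ toP1 (loc R K)) (by
      rw [Category.assoc, toP1_toBase, reassoc_of% ha, Category.id_comp])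
  refine ⟨m, hm, fun T i hi => ?_⟩
  obtain ⟨c, hc1, hc2⟩ := H T i (fun x => by simpa using hi x)
  refine ⟨(isPullback_toP1 i).lift c (𝟙 T) (by simpa using hc1),
    (isPullback_toP1 i).lift_snd _ _ _, fun e he => ?_⟩
  have h1 := hc2 _ e (𝟙 _) (by rw [he, Category.id_comp])
  apply (isPullback_toP1 i).hom_ext
  · rw [Category.assoc, (isPullback_toP1 i).lift_fst, h1, Category.id_comp, Category.assoc]
    rw [toP1_comp, he]
  · rw [Category.assoc, (isPullback_toP1 i).lift_snd, Category.comp_id, Category.assoc, toP1_toBase,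
      reassoc_of% ha]

end K959.SpreadP1
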