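import Groth.Agent.REq.K959.ExtP1
import Groth.Agent.REq.K959.SpreadP1

/-!
Morphisms `T ⟶ X` from open subschemes `T` of `Spec R` having the same effect on a functor `Φ` on
schemes over a field for which `Φ(Y) → Φ(P^1_Y)` is bijective, and R-equivalence of points with
values in the fraction field of `R`.
-/

set_option autoImplicit false
universe u v
open CategoryTheory CategoryTheory.Limits AlgebraicGeometry

namespace K959.FunRel

open Groth.Agent.Sga7.H301.PGrp P1 Groth.Agent.Sga4B.P1Geom REq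

variable {k : Type u} [Field k] (Φ : (Over (Spec (CommRingCat.of k)))ᵒᵖ ⥤ Type v)
  {X : Scheme.{u}} (f : X ⟶ Spec (CommRingCat.of k))
  {R K : Type u} [CommRing R] [IsDomain R] [Field K] [Algebra R K] [IsFractionRing R K] [Algebra k K]
  (g : Spec (CommRingCat.of R) ⟶ Spec (CommRingCat.of k))

/-- The effect of a morphism to `X` on `Φ`. -/
noncomputable abbrev ph {T : Scheme.{u}} (t : T ⟶ Spec (CommRingCat.of k)) (A : T ⟶ X)
    (w : A ≫ f = t) := Φ.map (Over.homMk A w : Over.mk t ⟶ Over.mk f).op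

theorem ph_comp {T T' : Scheme.{u}} (t : T ⟶ Spec (CommRingCat.of k)) (A : T ⟶ X)
    (w : A ≫ f = t) (t' : T' ⟶ Spec (CommRingCat.of k)) (p : T' ⟶ T) (w' : p ≫ t = t') :
    ph Φ f t' (p ≫ A) (by rw [Category.assoc, w, w']) =
      ph Φ f t A w ≫ ph Φ t t' p w' := by
  unfold ph
  rw [← Φ.map_comp, ← op_comp]
  rfl

/-- Two `K`-points of `X` extend to morphisms from an open subscheme of `Spec R` with the same effect
on `Φ`. -/
def Rel (A B : Pts f K) : Prop :=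
  ∃ (T : Scheme.{u}) (i : T ⟶ Spec (CommRingCat.of R)) (_ : IsOpenImmersion i)
    (e : Spec (CommRingCat.of K) ⟶ T) (_ : e ≫ i = loc R K) (A' B' : T ⟶ X)
    (wA : A' ≫ f = i ≫ g) (wB : B' ≫ f = i ≫ g), e ≫ A' = A.1 ∧ e ≫ B' = B.1 ∧
      ph Φ f (i ≫ g) A' wA = ph Φ f (i ≫ g) B' wB

theorem Rel.symm {A B : Pts f K} (h : Rel Φ f g A B) : Rel Φ f g B A := by
  obtain ⟨T, i, hi, e, he, A', B', wA, wB, hA, hB, hAB⟩ := h
  exact ⟨T, i, hi, e, he, B', A', wB, wA, hB, hA, hAB.symm⟩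

omit [IsDomain R] in
theorem bo_le {m n : R} (h : m ∣ n) : (bo n : Set (Spec (CommRingCat.of R))) ⊆ bo m := by
  intro x hx
  obtain ⟨c, rfl⟩ := h
  change m ∉ (x : PrimeSpectrum R).asIdeal
  have hx' : m * c ∉ (x : PrimeSpectrum R).asIdeal := hx
  intro h
  exact hx' (Ideal.mul_mem_right _ _ h)

theorem range_loc_le (m : R) (hm : m ≠ 0) :
    Set.range (loc R K) ⊆ (bo m : Set (Spec (CommRingCat.of R))) := by
  rintro _ ⟨x, rfl⟩
  change m ∉ ((loc R K) x : PrimeSpectrum R).asIdeal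
  intro h
  have h1 : algebraMap R K m ∈ (x : PrimeSpectrum K).asIdeal := h
  exact (x : PrimeSpectrum K).2.ne_top (Ideal.eq_top_of_isUnit_mem _ h1
    (IsUnit.mk0 _ (fun h0 => hm ((IsFractionRing.to_map_eq_zero_iff (K := K)).mp h0))))

/-- The lift of `Spec K` to a basic open. -/
theorem exists_lift_bo {m : R} (hm : m ≠ 0) :
    ∃ e : Spec (CommRingCat.of K) ⟶ (bo m : (Spec (CommRingCat.of R)).Opens),
      e ≫ (bo m).ι = loc R K := by
  refine ⟨IsOpenImmersion.lift (bo m).ι (loc R K) ?_, IsOpenImmersion.lift_fac _ _ _⟩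
  rw [Scheme.Opens.range_ι]
  exact range_loc_le m hm

theorem rel_refl [LocallyOfFinitePresentation f] (hg : loc R K ≫ g = specMap k K) (A : Pts f K) :
    Rel Φ f g A A := by
  obtain ⟨m, hm, H⟩ := SpreadP1.spread (R := R) (K := K) (𝟙 (Spec (CommRingCat.of R)))
    (pullback.snd f g) (𝟙 (Spec (CommRingCat.of K))) (loc R K) (IsPullback.of_vert_isIso ⟨by simp⟩)
    (pullback.lift A.1 (loc R K) (by rw [A.2, hg])) (by rw [pullback.lift_snd, Category.id_comp])
  obtain ⟨e, he⟩ := exists_lift_bo (R := R) (K := K) hm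
  obtain ⟨c, hc1, hc2⟩ := H (bo m : (Spec (CommRingCat.of R)).Opens) (bo m).ι
    (fun x => by simp)
  have w : (c ≫ pullback.fst f g) ≫ f = (bo m).ι ≫ g := by
    rw [Category.assoc, pullback.condition, reassoc_of% hc1]
  have h1 := hc2 _ e (𝟙 _) (by rw [he, Category.id_comp])
  have h2 : e ≫ c ≫ pullback.fst f g = A.1 := by
    rw [reassoc_of% h1, pullback.lift_fst]
  exact ⟨_, (bo m).ι, inferInstance, e, he, _, _, w, w, h2, h2, rfl⟩

instance isDominant_loc : IsDominant (loc R K) := by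
  constructor
  refine (PrimeSpectrum.denseRange_comap_iff_ker_le_nilRadical (algebraMap R K)).mpr ?_
  rw [(RingHom.injective_iff_ker_eq_bot _).mp (IsFractionRing.injective R K)]
  exact bot_le

/-- Two morphisms which agree at the generic point are equal. -/
theorem ext_of_generic [IsSeparated f] {T : Scheme.{u}} (i : T ⟶ Spec (CommRingCat.of R))
    [IsOpenImmersion i] (e : Spec (CommRingCat.of K) ⟶ T) (he : e ≫ i = loc R K) (A B : T ⟶ X)
    (w : A ≫ f = B ≫ f) (h : e ≫ A = e ≫ B) : A = B := by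
  have h1 : IsDominant (e ≫ i) := by rw [he]; infer_instance
  have h2 : IsDominant e := IsDominant.of_comp_of_isOpenImmersion e i
  have h3 : IsReduced T := isReduced_of_isOpenImmersion i
  exact ext_of_isDominant_of_isSeparated f w e h

theorem Rel.trans [IsSeparated f] {A B C : Pts f K} (h : Rel Φ f g A B) (h' : Rel Φ f g B C) :
    Rel Φ f g A C := by
  obtain ⟨T, i, hi, e, he, A₁, B₁, wA, wB, hA, hB, hAB⟩ := h
  obtain ⟨T', i', hi', e', he', B₂, C₂, wB', wC, hB', hC, hBC⟩ := h'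
  let p := pullback.fst i i'
  let p' := pullback.snd i i'
  have hpp : p ≫ i = p' ≫ i' := pullback.condition
  let e₃ : Spec (CommRingCat.of K) ⟶ pullback i i' := pullback.lift e e' (by rw [he, he'])
  have he₃ : e₃ ≫ p = e := pullback.lift_fst _ _ _
  have he₃' : e₃ ≫ p' = e' := pullback.lift_snd _ _ _
  have hd : e₃ ≫ p ≫ i = loc R K := by rw [reassoc_of% he₃, he]
  have wp : p ≫ i ≫ g = (p ≫ i) ≫ g := by rw [Category.assoc]
  have wp' : p' ≫ i' ≫ g = (p ≫ i) ≫ g := by rw [hpp, Category.assoc]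
  have hBB : p ≫ B₁ = p' ≫ B₂ := by
    refine ext_of_generic f (p ≫ i) e₃ hd _ _ ?_ ?_
    · rw [Category.assoc, wB, Category.assoc, wB', wp, wp']
    · rw [reassoc_of% he₃, reassoc_of% he₃', hB, hB']
  refine ⟨pullback i i', p ≫ i, inferInstance, e₃, hd, p ≫ A₁, p' ≫ C₂, ?_, ?_, ?_, ?_, ?_⟩
  · rw [Category.assoc, wA, wp]
  · rw [Category.assoc, wC, wp']
  · rw [reassoc_of% he₃, hA]
  · rw [reassoc_of% he₃', hC]
  · have h1 := ph_comp Φ f (i ≫ g) A₁ wA ((p ≫ i) ≫ g) p wp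
    have h2 := ph_comp Φ f (i ≫ g) B₁ wB ((p ≫ i) ≫ g) p wp
    have h3 := ph_comp Φ f (i' ≫ g) B₂ wB' ((p ≫ i) ≫ g) p' wp'
    have h4 := ph_comp Φ f (i' ≫ g) C₂ wC ((p ≫ i) ≫ g) p' wp'
    rw [h1, h4, hAB, ← hBC, ← h2, ← h3]
    congr 3

variable (hΦ : ∀ (Y : Scheme.{u}) (g : Y ⟶ Spec (CommRingCat.of k)) [IsIntegral Y] [Smooth g]
      [IsSeparated g] [QuasiCompact g],
      Function.Bijective (Φ.map (Over.homMk (CohB1.ProjSpaceOver.toBase 1 Y) rfl :
        Over.mk (CohB1.ProjSpaceOver.toBase 1 Y ≫ g) ⟶ Over.mk g).op))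

include hΦ in
/-- Two sections of the projective line have the same effect. -/
theorem section_eq {Y : Scheme.{u}} (g : Y ⟶ Spec (CommRingCat.of k)) [IsIntegral Y] [Smooth g]
    [IsSeparated g] [QuasiCompact g] (a b : Y ⟶ CohB1.ProjSpaceOver 1 Y)
    (ha : a ≫ CohB1.ProjSpaceOver.toBase 1 Y = 𝟙 Y) (hb : b ≫ CohB1.ProjSpaceOver.toBase 1 Y = 𝟙 Y) :
    ph Φ (CohB1.ProjSpaceOver.toBase 1 Y ≫ g) g a (by rw [reassoc_of% ha]) =
      ph Φ (CohB1.ProjSpaceOver.toBase 1 Y ≫ g) g b (by rw [reassoc_of% hb]) := by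
  have hs := (hΦ Y g).2
  have h1 : ∀ (a : Y ⟶ CohB1.ProjSpaceOver 1 Y) (ha : a ≫ CohB1.ProjSpaceOver.toBase 1 Y = 𝟙 Y),
      (Φ.map (Over.homMk (CohB1.ProjSpaceOver.toBase 1 Y) rfl :
        Over.mk (CohB1.ProjSpaceOver.toBase 1 Y ≫ g) ⟶ Over.mk g).op) ≫
      ph Φ (CohB1.ProjSpaceOver.toBase 1 Y ≫ g) g a (by rw [reassoc_of% ha]) = 𝟙 _ := by
    intro a ha
    unfold ph
    rw [← Φ.map_comp, ← op_comp, ← Φ.map_id]
    congr 1
    apply Quiver.Hom.unop_inj
    ext1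
    exact ha
  have := (epi_iff_surjective _).mpr hs
  rw [← cancel_epi (Φ.map (Over.homMk (CohB1.ProjSpaceOver.toBase 1 Y) rfl :
        Over.mk (CohB1.ProjSpaceOver.toBase 1 Y ≫ g) ⟶ Over.mk g).op), h1 a ha, h1 b hb]

include hΦ in
theorem rel_of_elemLink [IsProper f] (hg : loc R K ≫ g = specMap k K) [Smooth g] {A B : Pts f K}
    (h : ElemLink f K A B) : Rel Φ f g A B := by
  obtain ⟨U, h, a, b, h1, ha, hb, hA, hB⟩ := h
  have hlfp : LocallyOfFinitePresentation f :=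
    LocallyOfFinitePresentation.iff_locallyOfFiniteType.mpr inferInstance
  have hU : (U : Set (P1K K)).Nonempty := ⟨_, (a (IsLocalRing.closedPoint K)).2⟩
  obtain ⟨h', hh', hh''⟩ := ExtP1.exists_extend f U hU h h1
  obtain ⟨m₁, hm₁, H₁⟩ := SpreadP1.spread_P1 f g h' (by rw [hh', hg])
  obtain ⟨m₂, hm₂, H₂⟩ := SpreadP1.spread_section (R := R) (a ≫ U.ι) (by rw [Category.assoc, ha])
  obtain ⟨m₃, hm₃, H₃⟩ := SpreadP1.spread_section (R := R) (b ≫ U.ι) (by rw [Category.assoc, hb])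
  have hm : m₁ * m₂ * m₃ ≠ 0 := mul_ne_zero (mul_ne_zero hm₁ hm₂) hm₃
  obtain ⟨e, he⟩ := exists_lift_bo (R := R) (K := K) hm
  let T : Scheme.{u} := (bo (m₁ * m₂ * m₃) : (Spec (CommRingCat.of R)).Opens)
  let i : T ⟶ Spec (CommRingCat.of R) := (bo (m₁ * m₂ * m₃)).ι
  have hi : ∀ t, i t ∈ bo (m₁ * m₂ * m₃) := fun t => t.2
  obtain ⟨H, hH, hH'⟩ := H₁ T i (fun t => bo_le ⟨m₂ * m₃, by ring⟩ (hi t))
  obtain ⟨a', ha', haa⟩ := H₂ T i (fun t => bo_le ⟨m₁ * m₃, by ring⟩ (hi t))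
  obtain ⟨b', hb', hbb⟩ := H₃ T i (fun t => bo_le ⟨m₁ * m₂, by ring⟩ (hi t))
  have hne : Nonempty T := ⟨e (IsLocalRing.closedPoint K)⟩
  have hT1 : IsIntegral T := isIntegral_of_isOpenImmersion i
  have hT2 : IsAffine T := by
    have h0 : bo (m₁ * m₂ * m₃) = (Spec (CommRingCat.of R)).basicOpen
        ((Scheme.ΓSpecIso (CommRingCat.of R)).inv (m₁ * m₂ * m₃)) :=
      (basicOpen_eq_of_affine (R := CommRingCat.of R) (m₁ * m₂ * m₃)).symm
    have h1 : IsAffineOpen (bo (m₁ * m₂ * m₃)) := by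
      rw [h0]
      exact (isAffineOpen_top _).basicOpen _
    exact h1
  have hT3 : IsSeparated (i ≫ g) := inferInstance
  have hT4 : QuasiCompact (i ≫ g) := inferInstance
  have hT5 : Smooth (i ≫ g) := inferInstance
  have hs := section_eq Φ hΦ (i ≫ g) a' b' ha' hb'
  have wH : H ≫ f = CohB1.ProjSpaceOver.toBase 1 T ≫ i ≫ g := hH
  have wa : a' ≫ CohB1.ProjSpaceOver.toBase 1 T ≫ i ≫ g = i ≫ g := by rw [reassoc_of% ha']
  have wb : b' ≫ CohB1.ProjSpaceOver.toBase 1 T ≫ i ≫ g = i ≫ g := by rw [reassoc_of% hb']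
  refine ⟨T, i, inferInstance, e, he, a' ≫ H, b' ≫ H, ?_, ?_, ?_, ?_, ?_⟩
  · rw [Category.assoc, hH, wa]
  · rw [Category.assoc, hH, wb]
  · rw [reassoc_of% (haa e he), hH' e he, hh'', hA]
  · rw [reassoc_of% (hbb e he), hH' e he, hh'', hB]
  · rw [ph_comp Φ f _ H wH _ a' wa, ph_comp Φ f _ H wH _ b' wb, hs]

include hΦ in
/-- R-equivalent points extend to morphisms with the same effect. -/
theorem rel_of_rEquiv [IsProper f] (hg : loc R K ≫ g = specMap k K) [Smooth g] {A B : Pts f K}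
    (h : REquiv f K A B) : Rel Φ f g A B := by
  have hlfp : LocallyOfFinitePresentation f :=
    LocallyOfFinitePresentation.iff_locallyOfFiniteType.mpr inferInstance
  induction h with
  | rel _ _ h => exact rel_of_elemLink Φ f g hΦ hg h
  | refl A => exact rel_refl Φ f g hg A
  | symm _ _ _ ih => exact ih.symm
  | trans _ _ _ _ _ ih1 ih2 => exact ih1.trans Φ f g ih2

end K959.FunRel
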