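import Groth.Agent.S2941
import Groth.Agent.S0549
import Mathlib.RingTheory.Ideal.KrullsHeightTheorem
import Mathlib.RingTheory.Ideal.MinimalPrime.Noetherian

/-!
A regular local ring which is not a field has a discrete valuation ring quotient avoiding a given
nonzero element.
-/

set_option autoImplicit false
universe u

namespace K959.Germ

open IsLocalRing

/-- A regular parameter which does not divide a given nonzero element. -/
theorem exists_param (O : Type u) [CommRing O] [IsRegularLocalRing O] (d : ℕ)
    (hd : ringKrullDim O = (d + 2 : ℕ)) (g : O) (hg : g ≠ 0) :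
    ∃ y ∈ maximalIdeal O, y ∉ maximalIdeal O * maximalIdeal O ∧ g ∉ Ideal.span {y} := by
  have hdom : IsDomain O := Groth.Agent.S0558.result O
  have hht : (maximalIdeal O).height = ((d + 2 : ℕ) : ℕ∞) := by
    have := IsLocalRing.maximalIdeal_height_eq_ringKrullDim (R := O)
    rw [hd] at this
    exact WithBot.coe_injective this
  let s : Set (Ideal O) := insert (maximalIdeal O * maximalIdeal O) (Ideal.span {g}).minimalPrimes
  have hs : s.Finite := (Ideal.finite_minimalPrimes_of_isNoetherianRing O _).insert _
  have hnot : ¬ ((maximalIdeal O : Set O) ⊆ ⋃ i ∈ s, (i : Set O)) := by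
    rw [Ideal.subset_union_prime_finite hs (f := fun I : Ideal O => I)
      (maximalIdeal O * maximalIdeal O) (maximalIdeal O * maximalIdeal O)]
    · rintro ⟨I, hI, hle⟩
      rcases hI with rfl | hI
      · have h0 : maximalIdeal O = ⊥ := by
          apply Submodule.eq_bot_of_le_smul_of_le_jacobson_bot (maximalIdeal O) (maximalIdeal O)
            (IsNoetherian.noetherian _)
          · exact hle
          · exact IsLocalRing.maximalIdeal_le_jacobson _
        rw [h0, Ideal.height_bot] at hht
        exact absurd hht (by exact_mod_cast (by omega : (0 : ℕ) ≠ d + 2))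
      · have h1 : I.height ≤ 1 :=
          Ideal.height_le_one_of_isPrincipal_of_mem_minimalPrimes (Ideal.span {g}) I hI
        have h2 := (Ideal.height_mono hle).trans h1
        rw [hht] at h2
        exact absurd h2 (by exact_mod_cast (by omega : ¬ (d + 2 ≤ 1)))
    · intro I hI hne _
      rcases hI with rfl | hI
      · exact absurd rfl hne
      · exact hI.1.1
  rw [Set.not_subset] at hnot
  obtain ⟨y, hy, hys⟩ := hnot
  have hy2 : y ∉ maximalIdeal O * maximalIdeal O := fun h =>
    hys (Set.mem_biUnion (Set.mem_insert _ _) h)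
  have hyP : ∀ P ∈ (Ideal.span {g}).minimalPrimes, y ∉ P := fun P hP h =>
    hys (Set.mem_biUnion (Set.mem_insert_of_mem _ hP) h)
  refine ⟨y, hy, hy2, fun hgy => ?_⟩
  -- `(y)` is prime
  obtain ⟨hreg, -⟩ := Groth.Agent.S2941.quotient_regular O (d + 2) hd y hy hy2
  have hdq : IsDomain (O ⧸ Ideal.span {y}) := Groth.Agent.S0558.result _
  have hprime : (Ideal.span {y}).IsPrime := (Ideal.Quotient.isDomain_iff_prime _).mp hdq
  obtain ⟨P, hP, hPy⟩ := Ideal.exists_minimalPrimes_le
    (I := Ideal.span {g}) (J := Ideal.span {y})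
    (by rw [Ideal.span_singleton_le_iff_mem]; exact hgy)
  have hPprime : P.IsPrime := hP.1.1
  have hyP' := hyP P hP
  -- `P = y P`
  have hle : P ≤ maximalIdeal O • P := by
    intro z hz
    obtain ⟨w, rfl⟩ := Ideal.mem_span_singleton.mp (hPy hz)
    exact Submodule.smul_mem_smul hy ((hPprime.mem_or_mem hz).resolve_left hyP')
  have hP0 : P = ⊥ := Submodule.eq_bot_of_le_smul_of_le_jacobson_bot (maximalIdeal O) P
    (IsNoetherian.noetherian _) hle (IsLocalRing.maximalIdeal_le_jacobson _)
  have hgP : g ∈ P := hP.1.2 (Ideal.mem_span_singleton_self g)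
  rw [hP0] at hgP
  exact hg hgP

theorem exists_dvr (d : ℕ) : ∀ (O : Type u) [CommRing O] [IsRegularLocalRing O],
    ringKrullDim O = (d + 1 : ℕ) → ∀ g : O, g ≠ 0 →
    ∃ (D : Type u) (_ : CommRing D) (_ : IsDomain D) (_ : IsDiscreteValuationRing D)
      (π : O →+* D), Function.Surjective π ∧ π g ≠ 0 := by
  induction d with
  | zero =>
    intro O _ _ hd g hg
    obtain ⟨h1, h2⟩ := (Groth.Agent.S0549.dvr_iff O).mpr ⟨inferInstance, by simpa using hd⟩
    exact ⟨O, inferInstance, h1, h2, RingHom.id O, Function.surjective_id, hg⟩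
  | succ d ih =>
    intro O _ _ hd g hg
    obtain ⟨y, hy, hy2, hgy⟩ := exists_param O d hd g hg
    obtain ⟨hreg, d', hd', hdim⟩ := Groth.Agent.S2941.quotient_regular O (d + 2) hd y hy hy2
    have : d' = d + 1 := by omega
    subst this
    obtain ⟨D, i1, i2, i3, π, hπ, hπg⟩ := ih (O ⧸ Ideal.span {y}) hdim
      (Ideal.Quotient.mk _ g) (fun h => hgy (Ideal.Quotient.eq_zero_iff_mem.mp h))
    exact ⟨D, i1, i2, i3, π.comp (Ideal.Quotient.mk _), hπ.comp Ideal.Quotient.mk_surjective, hπg⟩

/-- A regular local ring which is not a field has a discrete valuation ring quotient in which a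
given nonzero element stays nonzero. -/
theorem exists_dvr_quotient (O : Type u) [CommRing O] [IsRegularLocalRing O] (hO : ¬ IsField O)
    (g : O) (hg : g ≠ 0) :
    ∃ (D : Type u) (_ : CommRing D) (_ : IsDomain D) (_ : IsDiscreteValuationRing D)
      (π : O →+* D), Function.Surjective π ∧ π g ≠ 0 := by
  have hdom : IsDomain O := Groth.Agent.S0558.result O
  have h1 : ringKrullDim O ≠ 0 := fun h => hO (by
    have := ringKrullDimZero_iff_ringKrullDim_eq_zero.mpr h
    exact Ring.KrullDimLE.isField_of_isDomain)
  have h2 : ((maximalIdeal O).spanFinrank : WithBot ℕ∞) = ringKrullDim O :=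
    IsRegularLocalRing.spanFinrank_maximalIdeal
  obtain ⟨d, hd⟩ : ∃ d, (maximalIdeal O).spanFinrank = d + 1 := by
    refine Nat.exists_eq_succ_of_ne_zero fun h0 => h1 ?_
    rw [← h2, h0]
    rfl
  rw [hd] at h2
  exact exists_dvr d O h2.symm g hg

end K959.Germ
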