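import Groth.Agent.REq.K959.ChartLine
import Groth.Agent.REq.K959.ExtP1

/-!
# Values at R-equivalent points
-/

set_option autoImplicit false
universe u
open CategoryTheory CategoryTheory.Limits AlgebraicGeometry Opposite TopologicalSpace
open scoped TensorProduct

namespace K959.OmVal

open Groth.Agent.Lefpen.H721.OmegaSec Groth.Agent.Lefpen.H721.OmegaPow Groth.Agent.Sga67.Sec
  Groth.Agent.CurvesB.OmegaStalkDict K959.CtSec K959.Contract K959.ArcGeom K959.Link REq
  Groth.Agent.CycB.P1Chart Groth.Agent.Sga4B.P1Geom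

/-- A rational point of the projective line lies in a chart. -/
theorem exists_eval {K : Type u} [Field K] (a : Spec (CommRingCat.of K) ⟶ P1K K)
    (ha : a ≫ P1K.toSpec K = 𝟙 _) : ∃ (ι : Fin (1 + 1)) (c : K),
      a = Spec.map (CommRingCat.ofHom (Polynomial.evalRingHom c)) ≫ jA K ι := by
  have h1 : ∃ ι : Fin (1 + 1), a (IsLocalRing.closedPoint K) ∈ Set.range (jA K ι) := by
    have h2 : ∀ ι : Fin (1 + 1), Set.range (v (Spec (CommRingCat.of K)) ι) ⊆ Set.range (jA K ι) := by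
      intro ι
      have : IsIso (CommRingCat.ofHom (uniq K).toRingHom) :=
        (ConcreteCategory.isIso_iff_bijective _).mpr (uniq K).bijective
      rintro _ ⟨z, rfl⟩
      rw [jA_eq]
      refine ⟨inv (Spec.map (CommRingCat.ofHom (uniq K).toRingHom)) ((AffineSpace.SpecIso I.{u} (CommRingCat.of K)).hom z), ?_⟩
      rw [← Scheme.Hom.comp_apply, ← Scheme.Hom.comp_apply, IsIso.inv_hom_id_assoc, Iso.hom_inv_id_assoc]
    rcases mem_range_v_or (Spec (CommRingCat.of K)) (a (IsLocalRing.closedPoint K)) 0 with h | h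
    · exact ⟨_, h2 _ h⟩
    · exact ⟨_, h2 _ h⟩
  obtain ⟨ι, hι⟩ := h1
  have hr : Set.range a ⊆ Set.range (jA K ι) := by
    rintro _ ⟨z, rfl⟩
    have : Subsingleton (Spec (CommRingCat.of K)) := inferInstanceAs (Subsingleton (PrimeSpectrum K))
    rw [Subsingleton.elim z (IsLocalRing.closedPoint K)]
    exact hι
  obtain ⟨ψ, hψ⟩ := Spec.map_surjective (IsOpenImmersion.lift (jA K ι) a hr)
  have hψ' : Spec.map ψ ≫ jA K ι = a := by rw [hψ, IsOpenImmersion.lift_fac]
  refine ⟨ι, ψ.hom Polynomial.X, ?_⟩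
  rw [← hψ']
  congr 1
  have h3 : ψ.hom.comp Polynomial.C = RingHom.id K := by
    apply map_ofHom_injective
    have h4 := ha
    rw [← hψ', Category.assoc, jA_toSpec, ← Spec.map_comp] at h4
    exact h4.trans (Spec.map_id _).symm
  have h5 : ψ.hom = Polynomial.evalRingHom (ψ.hom Polynomial.X) := by
    apply Polynomial.ringHom_ext
    · intro c
      rw [Polynomial.coe_evalRingHom, Polynomial.eval_C]
      exact DFunLike.congr_fun h3 c
    · simp
  rw [← h5]
  rfl

variable {k : Type u} [Field k] {X : Scheme.{u}} (f : X ⟶ Spec (CommRingCat.of k))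
  {i : ℕ} {L : X.Modules}
  (e : ∀ W : X.affineOpens, ⋀[SA f W.1]^i Ω[SA f W.1⁄k] ≃ₗ[SA f W.1] Γ(L, W.1))
  (he : ∀ (W W' : X.affineOpens) (h : W'.1 ≤ W.1) (x : ⋀[SA f W.1]^i Ω[SA f W.1⁄k]),
        L.presheaf.map (homOfLE h).op (e W x) = e W' (powS (resA f h) i x))
  (hgood : ∀ W : X.affineOpens, Good L W.1) {n : ℕ} (α : Sec (CohB1.tensorPow L n) (⊤ : X.Opens))
  {K : Type u} [Field K] [Algebra k K]

include he in
theorem isVal_line (h : P1K K ⟶ X) (hh : h ≫ f = P1K.toSpec K ≫ specMap k K)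
    (a b : Spec (CommRingCat.of K) ⟶ P1K K) (ha : a ≫ P1K.toSpec K = 𝟙 _)
    (hb : b ≫ P1K.toSpec K = 𝟙 _) (d : ℕ → Fin i → Module.Dual K Ω[K⁄k]) (v : K)
    (hv : IsVal f e hgood α (a ≫ h) d v) : IsVal f e hgood α (b ≫ h) d v := by
  obtain ⟨ι, s, rfl⟩ := exists_eval a ha
  obtain ⟨ι', s', rfl⟩ := exists_eval b hb
  rw [Category.assoc] at hv ⊢
  by_cases hι : ι = ι'
  · subst hι
    exact isVal_chart f e he hgood α h hh ι s s' d v hv
  · have hι' : ι' = ι + 1 :=
      (by decide : ∀ ι ι' : Fin (1 + 1), ¬ ι = ι' → ι' = ι + 1) ι ι' hι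
    subst hι'
    have h1 := isVal_chart f e he hgood α h hh ι s 1 d v hv
    have h2 : Spec.map (CommRingCat.ofHom (Polynomial.evalRingHom (1 : K))) ≫ jA K ι =
        Spec.map (CommRingCat.ofHom (Polynomial.evalRingHom (1 : K))) ≫ jA K (ι + 1) := by
      rw [eval_jA, eval_jA]
      exact pt_inv ι _ (one_mul (1 : K))
    rw [← Category.assoc, h2, Category.assoc] at h1
    exact isVal_chart f e he hgood α h hh (ι + 1) 1 s' d v h1

include he in
theorem isVal_of_elemLink [IsProper f] {A B : Pts f K} (H : ElemLink f K A B)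
    (d : ℕ → Fin i → Module.Dual K Ω[K⁄k]) (v : K) :
    IsVal f e hgood α A.1 d v ↔ IsVal f e hgood α B.1 d v := by
  obtain ⟨U, h, a, b, h1, ha, hb, hA, hB⟩ := H
  have hU : (U : Set (P1K K)).Nonempty := ⟨_, (a (IsLocalRing.closedPoint K)).2⟩
  obtain ⟨h', hh', hh''⟩ := ExtP1.exists_extend f U hU h h1
  have hA' : A.1 = (a ≫ U.ι) ≫ h' := by rw [Category.assoc, hh'', hA]
  have hB' : B.1 = (b ≫ U.ι) ≫ h' := by rw [Category.assoc, hh'', hB]
  rw [hA', hB']
  exact ⟨isVal_line f e he hgood α h' hh' _ _ (by rw [Category.assoc, ha]) (by rw [Category.assoc, hb]) d v,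
    isVal_line f e he hgood α h' hh' _ _ (by rw [Category.assoc, hb]) (by rw [Category.assoc, ha]) d v⟩

include he in
/-- R-equivalent points have the same values. -/
theorem isVal_of_rEquiv [IsProper f] {A B : Pts f K} (H : REquiv f K A B)
    (d : ℕ → Fin i → Module.Dual K Ω[K⁄k]) (v : K) :
    IsVal f e hgood α A.1 d v ↔ IsVal f e hgood α B.1 d v := by
  induction H with
  | rel _ _ h => exact isVal_of_elemLink f e he hgood α h d v
  | refl A => exact Iff.rfl
  | symm _ _ _ ih => exact ih.symm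
  | trans _ _ _ _ _ ih1 ih2 => exact ih1.trans ih2

end K959.OmVal
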