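import Mathlib.RingTheory.DiscreteValuationRing.Basic
import Mathlib.RingTheory.Localization.FractionRing
import Mathlib.Algebra.MvPolynomial.Eval
import Mathlib.Tactic.LinearCombination

/-!
Closeness in the fraction field of a discrete valuation ring: continuity of rational functions,
done by hand.
-/

set_option autoImplicit false

namespace K959.Near

variable {D F : Type*} [CommRing D] [IsDomain D] [IsDiscreteValuationRing D] [Field F]
  [Algebra D F] [IsFractionRing D F] (t : D)

/-- `x ≡ y` modulo `t ^ N D`. -/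
def Cl (N : ℕ) (x y : F) : Prop := ∃ d : D, x = y + algebraMap D F (t ^ N * d)

omit [IsDomain D] [IsDiscreteValuationRing D] [IsFractionRing D F] in
theorem Cl.refl (N : ℕ) (x : F) : Cl t N x x := ⟨0, by simp⟩

omit [IsDomain D] [IsDiscreteValuationRing D] [IsFractionRing D F] in
theorem Cl.mono {M N : ℕ} (h : N ≤ M) {x y : F} (hxy : Cl t M x y) : Cl t N x y := by
  obtain ⟨d, hd⟩ := hxy
  obtain ⟨e, rfl⟩ := Nat.exists_eq_add_of_le h
  exact ⟨t ^ e * d, by rw [hd, pow_add, mul_assoc]⟩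

omit [IsDomain D] [IsDiscreteValuationRing D] [IsFractionRing D F] in
theorem Cl.add {N : ℕ} {x y x' y' : F} (h : Cl t N x y) (h' : Cl t N x' y') :
    Cl t N (x + x') (y + y') := by
  obtain ⟨d, hd⟩ := h
  obtain ⟨d', hd'⟩ := h'
  refine ⟨d + d', ?_⟩
  rw [hd, hd', mul_add, map_add]
  ring

/-- Elements of the fraction field have bounded poles. -/
theorem bounded (ht : Irreducible t) (x : F) : ∃ (C : ℕ) (c : D),
    algebraMap D F (t ^ C) * x = algebraMap D F c := by
  obtain ⟨a, b, hb, rfl⟩ := IsFractionRing.div_surjective (A := D) x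
  have hb0 : b ≠ 0 := nonZeroDivisors.ne_zero hb
  obtain ⟨C, u, hu⟩ := IsDiscreteValuationRing.eq_unit_mul_pow_irreducible hb0 ht
  refine ⟨C, a * ((u⁻¹ : Dˣ) : D), ?_⟩
  have hbF : algebraMap D F b ≠ 0 := fun h => hb0 (IsFractionRing.injective D F (by
    rw [h, map_zero]))
  have h1 : t ^ C = b * ((u⁻¹ : Dˣ) : D) := by
    rw [hu, mul_comm (u : D), mul_assoc, Units.mul_inv, mul_one]
  rw [h1, map_mul, map_mul]
  field_simp

theorem Cl.mul (ht : Irreducible t) (N : ℕ) (x x' : F) : ∃ M : ℕ, ∀ y y' : F, Cl t M y x →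
    Cl t M y' x' → Cl t N (y * y') (x * x') := by
  obtain ⟨C, c, hc⟩ := bounded t ht x
  obtain ⟨C', c', hc'⟩ := bounded t ht x'
  refine ⟨N + C + C', ?_⟩
  rintro y y' ⟨d, hd⟩ ⟨d', hd'⟩
  refine ⟨t ^ C' * c * d' + t ^ C * c' * d + t ^ (N + C + C') * t ^ C * t ^ C' * d * d', ?_⟩
  rw [hd, hd']
  simp only [map_add, map_mul, map_pow, pow_add] at hc hc' ⊢
  linear_combination
    (algebraMap D F t ^ N * algebraMap D F t ^ C' * algebraMap D F d') * hc +
    (algebraMap D F t ^ N * algebraMap D F t ^ C * algebraMap D F d) * hc'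

/-- Inversion is continuous. -/
theorem Cl.inv (ht : Irreducible t) (N : ℕ) (x : F) (hx : x ≠ 0) : ∃ M : ℕ, ∀ y : F, Cl t M y x →
    y ≠ 0 ∧ Cl t N y⁻¹ x⁻¹ := by
  obtain ⟨C, c, hc⟩ := bounded t ht x⁻¹
  have htF : algebraMap D F t ≠ 0 := fun h => ht.ne_zero (IsFractionRing.injective D F (by
    rw [h, map_zero]))
  have hc1 : x⁻¹ = algebraMap D F c / algebraMap D F t ^ C := by
    rw [eq_div_iff (pow_ne_zero _ htF), mul_comm, ← map_pow, hc]
  refine ⟨N + C + C + 1, ?_⟩
  rintro y ⟨d, hd⟩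
  -- `y = x (1 + ε)` with `ε = t^(N+C+1) c d`
  have hu : IsUnit (1 + t * (t ^ (N + C) * (c * d))) := by
    by_contra hnu
    have hm : (1 + t * (t ^ (N + C) * (c * d))) ∈ IsLocalRing.maximalIdeal D :=
      (IsLocalRing.mem_maximalIdeal _).mpr hnu
    have hm2 : t * (t ^ (N + C) * (c * d)) ∈ IsLocalRing.maximalIdeal D :=
      Ideal.mul_mem_right _ _ ((IsLocalRing.mem_maximalIdeal _).mpr ht.not_isUnit)
    have := (Ideal.add_mem_iff_left _ hm2).mp hm
    exact (Ideal.ne_top_iff_one _).mp (IsLocalRing.maximalIdeal.isMaximal D).ne_top this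
  obtain ⟨u, hu⟩ := hu
  have hy : y = x * algebraMap D F u := by
    rw [hd, hu]
    have e : algebraMap D F (t ^ (N + C + C + 1) * d) =
        x * (x⁻¹ * algebraMap D F (t ^ (N + C + C + 1) * d)) := by
      rw [← mul_assoc, mul_inv_cancel₀ hx, one_mul]
    rw [e, hc1]
    simp only [map_add, map_mul, map_pow, map_one, pow_add, pow_one]
    field_simp
  have huF : algebraMap D F u ≠ 0 := fun h => u.ne_zero (IsFractionRing.injective D F (by
    rw [h, map_zero]))
  refine ⟨by rw [hy]; exact mul_ne_zero hx huF, ?_⟩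
  refine ⟨-(t * c * c * d * ((u⁻¹ : Dˣ) : D)), ?_⟩
  have hui : algebraMap D F ((u⁻¹ : Dˣ) : D) = (algebraMap D F u)⁻¹ := by
    apply eq_inv_of_mul_eq_one_left
    rw [← map_mul, Units.inv_mul, map_one]
  have hu2 : algebraMap D F u = 1 + algebraMap D F (t * (t ^ (N + C) * (c * d))) := by
    rw [hu, map_add, map_one]
  rw [hy, mul_inv]
  apply mul_left_cancel₀ huF
  calc algebraMap D F u * (x⁻¹ * (algebraMap D F u)⁻¹)
      = x⁻¹ * (algebraMap D F u * (algebraMap D F u)⁻¹) := by ring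
    _ = x⁻¹ := by rw [mul_inv_cancel₀ huF, mul_one]
    _ = algebraMap D F u * x⁻¹ - algebraMap D F t ^ N * (algebraMap D F t * algebraMap D F c *
          algebraMap D F c * algebraMap D F d) := by
        rw [hc1, hu2]
        simp only [map_mul, map_pow, pow_add]
        field_simp
        ring
    _ = algebraMap D F u * x⁻¹ - algebraMap D F t ^ N * (algebraMap D F t * algebraMap D F c *
          algebraMap D F c * algebraMap D F d) * (algebraMap D F u * (algebraMap D F u)⁻¹) := by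
        rw [mul_inv_cancel₀ huF, mul_one]
    _ = _ := by
        rw [map_mul, map_neg, map_mul, hui]
        simp only [map_mul, map_pow]
        ring

/-- Continuity at a point of the affine space over the fraction field. -/
def CA {n : ℕ} (G : (Fin n → F) → F) (v : Fin n → F) : Prop :=
  ∀ N : ℕ, ∃ M : ℕ, ∀ w : Fin n → F, (∀ i, Cl t M (w i) (v i)) → Cl t N (G w) (G v)

section CA

variable {t} {n : ℕ} {G G' : (Fin n → F) → F} {v : Fin n → F}

omit [IsDomain D] [IsDiscreteValuationRing D] [IsFractionRing D F] in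
theorem CA.const (c : F) : CA t (fun _ : Fin n → F => c) v :=
  fun N => ⟨0, fun _ _ => Cl.refl t N c⟩

omit [IsDomain D] [IsDiscreteValuationRing D] [IsFractionRing D F] in
theorem CA.coord (i : Fin n) : CA t (fun w : Fin n → F => w i) v :=
  fun N => ⟨N, fun _ h => h i⟩

omit [IsDomain D] [IsDiscreteValuationRing D] [IsFractionRing D F] in
theorem CA.add (h : CA t G v) (h' : CA t G' v) : CA t (fun w => G w + G' w) v := by
  intro N
  obtain ⟨M, hM⟩ := h N
  obtain ⟨M', hM'⟩ := h' N
  exact ⟨max M M', fun w hw => Cl.add t (hM w fun i => Cl.mono t (le_max_left _ _) (hw i))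
    (hM' w fun i => Cl.mono t (le_max_right _ _) (hw i))⟩

theorem CA.mul (ht : Irreducible t) (h : CA t G v) (h' : CA t G' v) :
    CA t (fun w => G w * G' w) v := by
  intro N
  obtain ⟨P, hP⟩ := Cl.mul t ht N (G v) (G' v)
  obtain ⟨M, hM⟩ := h P
  obtain ⟨M', hM'⟩ := h' P
  exact ⟨max M M', fun w hw => hP _ _ (hM w fun i => Cl.mono t (le_max_left _ _) (hw i))
    (hM' w fun i => Cl.mono t (le_max_right _ _) (hw i))⟩

theorem CA.inv (ht : Irreducible t) (h : CA t G v) (h0 : G v ≠ 0) :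
    CA t (fun w => (G w)⁻¹) v := by
  intro N
  obtain ⟨P, hP⟩ := Cl.inv t ht N (G v) h0
  obtain ⟨M, hM⟩ := h P
  exact ⟨M, fun w hw => (hP _ (hM w hw)).2⟩

theorem CA.ne_zero (ht : Irreducible t) (h : CA t G v) (h0 : G v ≠ 0) :
    ∃ M : ℕ, ∀ w : Fin n → F, (∀ i, Cl t M (w i) (v i)) → G w ≠ 0 := by
  obtain ⟨P, hP⟩ := Cl.inv t ht 0 (G v) h0
  obtain ⟨M, hM⟩ := h P
  exact ⟨M, fun w hw => (hP _ (hM w hw)).1⟩

theorem CA.pow (ht : Irreducible t) (h : CA t G v) (m : ℕ) : CA t (fun w => G w ^ m) v := by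
  induction m with
  | zero => simpa using CA.const 1
  | succ m ih => simpa [pow_succ] using CA.mul ht ih h

theorem CA.eval₂ (ht : Irreducible t) {R : Type*} [CommSemiring R] (φ : R →+* F)
    (P : MvPolynomial (Fin n) R) : CA t (fun w => P.eval₂ φ w) v := by
  induction P using MvPolynomial.induction_on with
  | C a => simpa using CA.const (φ a)
  | add p q hp hq => simpa [MvPolynomial.eval₂_add] using CA.add hp hq
  | mul_X p i hp => simpa [MvPolynomial.eval₂_mul] using CA.mul ht hp (CA.coord i)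

end CA

end K959.Near
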