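import Groth.Agent.REq.K959.LineVal
import Groth.Agent.LogNCD.K913.TauAff
import Groth.Agent.Ega2.QCohLocal

/-!
# Sections of `(Ω^i)^{⊗ m}` on almost R-trivial smooth proper schemes
-/

set_option autoImplicit false
universe u
open CategoryTheory CategoryTheory.Limits AlgebraicGeometry Opposite TopologicalSpace
open scoped TensorProduct

namespace K959.OmVal

open Groth.Agent.Lefpen.H721.OmegaSec Groth.Agent.Lefpen.H721.OmegaPow Groth.Agent.Sga67.Sec
  Groth.Agent.CurvesB.OmegaStalkDict K959.CtSec K959.Contract K959.ArcGeom K959.Link REq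

variable {k : Type u} [Field k] {X : Scheme.{u}} (f : X ⟶ Spec (CommRingCat.of k))

theorem isQCoh_tensorPow {L : X.Modules} (hL : Coh.IsQCoh L) (n : ℕ) :
    Coh.IsQCoh (CohB1.tensorPow L n) := by
  induction n with
  | zero => exact Groth.Agent.Ega2.QCohLocal.isQCoh_structureModule X
  | succ n ih => exact Groth.Agent.Ega1.TensorRestrict.isQCoh_tensorMod _ _ ih hL

theorem good_of_isQCoh {L : X.Modules} (hL : Coh.IsQCoh L) (W : X.affineOpens) : Good L W.1 :=
  fun n => K913.TauAff.tau_bijective_affine (isQCoh_tensorPow hL n) hL W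

/-- A smooth scheme over a field is covered by affine opens with free differentials. -/
theorem exists_free_omega [Smooth f] (x : X) : ∃ W : X.affineOpens, x ∈ W.1 ∧
    Module.Free (SA f W.1) Ω[SA f W.1⁄k] := by
  obtain ⟨U, hU, V, hV, hxV, hVU, h⟩ := Smooth.exists_isStandardSmooth f x
  have hUtop : U = ⊤ := by
    have hs : Subsingleton (Spec (CommRingCat.of k)) := inferInstanceAs (Subsingleton (PrimeSpectrum k))
    ext y
    have : f x ∈ U := hVU hxV
    rw [Subsingleton.elim y (f x)]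
    simp [this]
  subst hUtop
  refine ⟨⟨V, hV⟩, hxV, ?_⟩
  have h1 : (secHom f V).IsStandardSmooth := by
    have h2 : secHom f V = (f.appLE ⊤ V hVU).hom.comp
        (Scheme.ΓSpecIso (CommRingCat.of k)).inv.hom := rfl
    rw [h2]
    exact RingHom.isStandardSmooth_respectsIso.2 _
      (Scheme.ΓSpecIso (CommRingCat.of k)).symm.commRingCatIsoToRingEquiv h
  have h2 : Algebra.IsStandardSmooth k (SA f V) := h1
  infer_instance

/-- `η` is the point given by a fraction field of the functions on each nonempty affine open. -/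
def IsGen {K : Type u} [Field K] (η : Spec (CommRingCat.of K) ⟶ X) : Prop :=
  ∀ W : X.affineOpens, (W.1 : Set X).Nonempty → ∃ μ : Γ(X, W.1) →+* K,
    η = Spec.map (CommRingCat.ofHom μ) ≫ (isAff W).fromSpec ∧
      @IsFractionRing Γ(X, W.1) _ K _ μ.toAlgebra

theorem exists_generic {K : Type u} [Field K] [Algebra k K] (η : Spec (CommRingCat.of K) ⟶ X)
    (hη : η ≫ f = Spec.map (CommRingCat.ofHom (algebraMap k K))) (hgen : IsGen η)
    (W : X.affineOpens) (hW : (W.1 : Set X).Nonempty) :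
    ∃ φ : SA f W.1 →ₐ[k] K, ptOf f W φ = η ∧
      Function.Injective φ ∧ ∀ d : Module.Dual (SA f W.1) Ω[SA f W.1⁄k],
        ∃ d' : Module.Dual K Ω[K⁄k], ∀ a,
          d' (KaehlerDifferential.D k K (φ a)) = φ (d (KaehlerDifferential.D k (SA f W.1) a)) := by
  obtain ⟨μ, hμ, hfrac⟩ := hgen W hW
  have h1 : μ.comp (secHom f W.1) = algebraMap k K := by
    apply map_ofHom_injective
    rw [CommRingCat.ofHom_comp, Spec.map_comp, spec_secHom f (isAff W), ← Category.assoc, ← hμ, hη]
  let φ : SA f W.1 →ₐ[k] K :=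
    { (show SA f W.1 →+* K from μ) with commutes' := fun a => DFunLike.congr_fun h1 a }
  let : Algebra (SA f W.1) K := (φ : SA f W.1 →+* K).toAlgebra
  have : IsScalarTower k (SA f W.1) K := IsScalarTower.of_algebraMap_eq (fun a => (φ.commutes a).symm)
  have hfrac' : IsFractionRing (SA f W.1) K := hfrac
  refine ⟨φ, hμ.symm, IsFractionRing.injective (SA f W.1) K, fun d => ?_⟩
  exact exists_extend (S' := K) (nonZeroDivisors (SA f W.1)) d

theorem isGen_functionField [IsIntegral X] :
    IsGen (K := X.functionField) (X.fromSpecStalk (genericPoint X)) := by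
  intro W hW
  have hne : Nonempty W.1 := ⟨⟨hW.some, hW.some_mem⟩⟩
  have hgen : genericPoint X ∈ W.1 :=
    ((genericPoint_spec X).mem_open_set_iff W.1.2).mpr (by simpa using hW)
  refine ⟨(X.presheaf.germ W.1 (genericPoint X) hgen).hom, ?_, ?_⟩
  · exact ((isAff W).fromSpecStalk_eq_fromSpecStalk hgen).symm
  · exact functionField_isFractionRing_of_isAffineOpen X W.1 (isAff W)

variable {i : ℕ} {L : X.Modules}
  (e : ∀ W : X.affineOpens, ⋀[SA f W.1]^i Ω[SA f W.1⁄k] ≃ₗ[SA f W.1] Γ(L, W.1))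
  (he : ∀ (W W' : X.affineOpens) (h : W'.1 ≤ W.1) (x : ⋀[SA f W.1]^i Ω[SA f W.1⁄k]),
        L.presheaf.map (homOfLE h).op (e W x) = e W' (powS (resA f h) i x))
  (hgood : ∀ W : X.affineOpens, Good L W.1) {n : ℕ} (α : Sec (CohB1.tensorPow L n) (⊤ : X.Opens))

include he in
/-- A global section with vanishing values at the generic point vanishes. -/
theorem eq_zero_of_generic [Smooth f] {K : Type u} [Field K] [Algebra k K]
    (η : Spec (CommRingCat.of K) ⟶ X)
    (hη : η ≫ f = Spec.map (CommRingCat.ofHom (algebraMap k K))) (hgen : IsGen η)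
    (h : ∀ d : ℕ → Fin i → Module.Dual K Ω[K⁄k], IsVal f e hgood α η d 0) : α = 0 := by
  classical
  apply eq_of_locally
  intro x _
  obtain ⟨W, hxW, hfree⟩ := exists_free_omega f x
  refine ⟨W.1, le_top, hxW, ?_⟩
  rw [map_zero]
  obtain ⟨φ, hφ, hinj, hext⟩ := exists_generic f η hη hgen W ⟨x, hxW⟩
  let b := Module.Free.chooseBasis (SA f W.1) Ω[SA f W.1⁄k]
  let : LinearOrder (Module.Free.ChooseBasisIndex (SA f W.1) Ω[SA f W.1⁄k]) :=
    linearOrderOfSTO WellOrderingRel
  refine eq_zero_of_val f e hgood W φ hinj b hext n _ (fun d => ?_)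
  have h1 : IsVal f e hgood α η d (val f e hgood W φ d n (res _ le_top α)) := ⟨W, φ, hφ, rfl⟩
  exact h1.unique f e he hgood α (h d)

/-- The values at points which come from the base field vanish. -/
theorem isVal_zero_of_base (hi : 0 < i) (hn : 0 < n) {K : Type u} [Field K] [Algebra k K]
    (x : Spec (CommRingCat.of k) ⟶ X) (hx : x ≫ f = 𝟙 _) (d : ℕ → Fin i → Module.Dual K Ω[K⁄k]) :
    IsVal f e hgood α (specMap k K ≫ x) d 0 := by
  obtain ⟨n, rfl⟩ := Nat.exists_eq_succ_of_ne_zero hn.ne'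
  obtain ⟨V, hV, hxV, -⟩ := exists_isAffineOpen_mem_and_subset (X := X)
    (x := x (IsLocalRing.closedPoint k)) (U := ⊤) trivial
  obtain ⟨χ, hχ⟩ := exists_ptOf f x (hx.trans (Spec.map_id _).symm) ⟨V, hV⟩
    (range_subset_of_closedPoint x V hxV)
  refine ⟨⟨V, hV⟩, (Algebra.ofId k K).comp χ, ?_, ?_⟩
  · rw [ptOf_comp, hχ]
    rfl
  · exact val_eq_zero f e hgood hi ⟨V, hV⟩ χ d n _

end K959.OmVal
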