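import Groth.Agent.REq.K959.OmVal

/-!
# Values of global sections of `(Ω^i)^{⊗ n}` at points with values in local rings
-/

set_option autoImplicit false
universe u
open CategoryTheory CategoryTheory.Limits AlgebraicGeometry Opposite TopologicalSpace
open scoped TensorProduct

namespace K959.OmVal

open Groth.Agent.Lefpen.H721.OmegaSec Groth.Agent.Lefpen.H721.OmegaPow Groth.Agent.Sga67.Sec
  Groth.Agent.CurvesB.OmegaStalkDict K959.CtSec K959.Contract K959.ArcGeom

variable {k : Type u} [Field k] {X : Scheme.{u}} (f : X ⟶ Spec (CommRingCat.of k))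
  {S : Type u} [CommRing S] [Algebra k S] {S' : Type u} [CommRing S'] [Algebra k S']

theorem isAff (W : X.affineOpens) : IsAffineOpen W.1 := W.2

/-- The point given by a homomorphism of algebras. -/
noncomputable def ptOf (W : X.affineOpens) (φ : SA f W.1 →ₐ[k] S) : Spec (CommRingCat.of S) ⟶ X :=
  Spec.map (CommRingCat.ofHom (rh φ)) ≫ (isAff W).fromSpec

theorem ptOf_comp (W : X.affineOpens) (φ : SA f W.1 →ₐ[k] S) (ψ : S →ₐ[k] S') :
    ptOf f W (ψ.comp φ) = Spec.map (CommRingCat.ofHom (ψ : S →+* S')) ≫ ptOf f W φ := by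
  unfold ptOf
  rw [← Category.assoc, ← Spec.map_comp, ← CommRingCat.ofHom_comp]
  rfl

theorem ptOf_resA (W W' : X.affineOpens) (h : W'.1 ≤ W.1) (φ : SA f W'.1 →ₐ[k] S) :
    ptOf f W (φ.comp (resA f h)) = ptOf f W' φ := by
  unfold ptOf
  have h1 : (isAff W').fromSpec = Spec.map (X.presheaf.map (homOfLE h).op) ≫ (isAff W).fromSpec :=
    ((isAff W).map_fromSpec (isAff W') (homOfLE h).op).symm
  rw [h1, ← Category.assoc, ← Spec.map_comp]
  rfl

theorem ptOf_injective (W : X.affineOpens) {φ ψ : SA f W.1 →ₐ[k] S} (h : ptOf f W φ = ptOf f W ψ) :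
    φ = ψ := by
  unfold ptOf at h
  rw [cancel_mono] at h
  have h1 : rh φ = rh ψ := map_ofHom_injective h
  ext a
  exact DFunLike.congr_fun h1 a

theorem ptOf_over (W : X.affineOpens) (φ : SA f W.1 →ₐ[k] S) :
    ptOf f W φ ≫ f = Spec.map (CommRingCat.ofHom (algebraMap k S)) := by
  unfold ptOf
  rw [Category.assoc, ← spec_secHom f (isAff W), ← Spec.map_comp, ← CommRingCat.ofHom_comp]
  congr 2
  ext a
  exact φ.commutes a

/-- A point over `k` with image in an affine open comes from a homomorphism of algebras. -/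
theorem exists_ptOf (x : Spec (CommRingCat.of S) ⟶ X)
    (hx : x ≫ f = Spec.map (CommRingCat.ofHom (algebraMap k S))) (W : X.affineOpens)
    (h : Set.range x ⊆ (W.1 : Set X)) : ∃ φ : SA f W.1 →ₐ[k] S, ptOf f W φ = x := by
  obtain ⟨μ, hμ⟩ := exists_lift x (isAff W) h
  have h1 : μ.comp (secHom f W.1) = algebraMap k S := by
    apply map_ofHom_injective
    rw [CommRingCat.ofHom_comp, Spec.map_comp, spec_secHom f (isAff W), ← Category.assoc, ← hμ, hx]
  exact ⟨{ (show SA f W.1 →+* S from μ) with commutes' := fun a => DFunLike.congr_fun h1 a }, hμ.symm⟩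

variable {i : ℕ} {L : X.Modules}
  (e : ∀ W : X.affineOpens, ⋀[SA f W.1]^i Ω[SA f W.1⁄k] ≃ₗ[SA f W.1] Γ(L, W.1))
  (he : ∀ (W W' : X.affineOpens) (h : W'.1 ≤ W.1) (x : ⋀[SA f W.1]^i Ω[SA f W.1⁄k]),
        L.presheaf.map (homOfLE h).op (e W x) = e W' (powS (resA f h) i x))
  (hgood : ∀ W : X.affineOpens, Good L W.1) {n : ℕ} (α : Sec (CohB1.tensorPow L n) (⊤ : X.Opens))

/-- `v` is the value of `α` at `x` on the family of functionals `d`. -/
def IsVal (x : Spec (CommRingCat.of S) ⟶ X) (d : ℕ → Fin i → Module.Dual S Ω[S⁄k]) (v : S) : Prop :=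
  ∃ (W : X.affineOpens) (φ : SA f W.1 →ₐ[k] S), ptOf f W φ = x ∧
    val f e hgood W φ d n (res _ le_top α) = v

theorem IsVal.map {x : Spec (CommRingCat.of S) ⟶ X} {d : ℕ → Fin i → Module.Dual S Ω[S⁄k]} {v : S}
    (h : IsVal f e hgood α x d v) (ψ : S →ₐ[k] S') (d' : ℕ → Fin i → Module.Dual S' Ω[S'⁄k])
    (hd : ∀ j l a, d' j l (KaehlerDifferential.D k S' (ψ a)) = ψ (d j l (KaehlerDifferential.D k S a))) :
    IsVal f e hgood α (Spec.map (CommRingCat.ofHom (ψ : S →+* S')) ≫ x) d' (ψ v) := by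
  obtain ⟨W, φ, hφ, hv⟩ := h
  exact ⟨W, ψ.comp φ, by rw [ptOf_comp, hφ], by rw [val_map f e hgood W φ ψ d d' hd, hv]⟩

include he in
theorem val_top_res (W W' : X.affineOpens) (h : W'.1 ≤ W.1) (φ : SA f W'.1 →ₐ[k] S)
    (d : ℕ → Fin i → Module.Dual S Ω[S⁄k]) :
    val f e hgood W' φ d n (res _ le_top α) = val f e hgood W (φ.comp (resA f h)) d n (res _ le_top α) := by
  rw [← val_res f e he hgood W W' h (φ.comp (resA f h)) φ rfl d n, res_res]

include he in
theorem IsVal.unique [IsLocalRing S] {x : Spec (CommRingCat.of S) ⟶ X}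
    {d : ℕ → Fin i → Module.Dual S Ω[S⁄k]} {v v' : S}
    (h : IsVal f e hgood α x d v) (h' : IsVal f e hgood α x d v') : v = v' := by
  obtain ⟨W, φ, hφ, rfl⟩ := h
  obtain ⟨W', φ', hφ', rfl⟩ := h'
  have hx : x ≫ f = Spec.map (CommRingCat.ofHom (algebraMap k S)) := by rw [← hφ, ptOf_over]
  have hr : ∀ (W : X.affineOpens) (φ : SA f W.1 →ₐ[k] S), ptOf f W φ = x →
      x (IsLocalRing.closedPoint S) ∈ W.1 := by
    rintro W φ rfl
    have : ptOf f W φ (IsLocalRing.closedPoint S) ∈ Set.range (isAff W).fromSpec := by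
      exact ⟨Spec.map (CommRingCat.ofHom (rh φ)) (IsLocalRing.closedPoint S), rfl⟩
    rw [(isAff W).range_fromSpec] at this
    exact this
  obtain ⟨V, hV, hxV, hVW⟩ := exists_isAffineOpen_mem_and_subset (X := X)
    (x := x (IsLocalRing.closedPoint S)) (U := W.1 ⊓ W'.1) ⟨hr W φ hφ, hr W' φ' hφ'⟩
  obtain ⟨χ, hχ⟩ := exists_ptOf f x hx ⟨V, hV⟩ (range_subset_of_closedPoint x V hxV)
  have key : ∀ (W : X.affineOpens) (φ : SA f W.1 →ₐ[k] S), ptOf f W φ = x → (hVW : V ≤ W.1) →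
      val f e hgood W φ d n (res _ le_top α) = val f e hgood ⟨V, hV⟩ χ d n (res _ le_top α) := by
    intro W φ hφ hVW
    rw [val_top_res f e he hgood α W ⟨V, hV⟩ hVW χ d]
    have : φ = χ.comp (resA f hVW) := by
      apply ptOf_injective f W
      rw [hφ, ptOf_resA f W ⟨V, hV⟩ hVW χ, hχ]
    rw [this]
  rw [key W φ hφ (fun y hy => (hVW hy).1), key W' φ' hφ' (fun y hy => (hVW hy).2)]

theorem exists_isVal [IsLocalRing S] (x : Spec (CommRingCat.of S) ⟶ X)
    (hx : x ≫ f = Spec.map (CommRingCat.ofHom (algebraMap k S)))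
    (d : ℕ → Fin i → Module.Dual S Ω[S⁄k]) : ∃ v, IsVal f e hgood α x d v := by
  obtain ⟨V, hV, hxV, -⟩ := exists_isAffineOpen_mem_and_subset (X := X)
    (x := x (IsLocalRing.closedPoint S)) (U := ⊤) trivial
  obtain ⟨χ, hχ⟩ := exists_ptOf f x hx ⟨V, hV⟩ (range_subset_of_closedPoint x V hxV)
  exact ⟨_, ⟨V, hV⟩, χ, hχ, rfl⟩

end K959.OmVal
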