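import Groth.Agent.REq.K959.CtSec
import Groth.Agent.REq.K959.Contract
import Groth.Agent.REq.K959.ArcGeom
import Groth.Agent.Lefpen.H721.OmegaSec

/-!
# Values of sections of `(Ω^i)^{⊗ n}` at points, on families of functionals
-/

set_option autoImplicit false
universe u
open CategoryTheory CategoryTheory.Limits AlgebraicGeometry Opposite TopologicalSpace
open scoped TensorProduct

namespace K959.OmVal

open Groth.Agent.Lefpen.H721.OmegaSec Groth.Agent.Lefpen.H721.OmegaPow Groth.Agent.Sga67.Sec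
  Groth.Agent.CurvesB.OmegaStalkDict K959.CtSec K959.Contract

variable {k : Type u} [Field k] {X : Scheme.{u}} (f : X ⟶ Spec (CommRingCat.of k))

theorem spec_secHom {W : X.Opens} (hW : IsAffineOpen W) :
    Spec.map (CommRingCat.ofHom (secHom f W)) = hW.fromSpec ≫ f := by
  rw [← IsAffineOpen.SpecMap_appLE_fromSpec f (isAffineOpen_top _) hW le_top,
    IsAffineOpen.fromSpec_top, Scheme.isoSpec_Spec_inv, ← Spec.map_comp]
  rfl

variable {i : ℕ} {L : X.Modules}
  (e : ∀ W : X.affineOpens, ⋀[SA f W.1]^i Ω[SA f W.1⁄k] ≃ₗ[SA f W.1] Γ(L, W.1))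
  (he : ∀ (W W' : X.affineOpens) (h : W'.1 ≤ W.1) (x : ⋀[SA f W.1]^i Ω[SA f W.1⁄k]),
        L.presheaf.map (homOfLE h).op (e W x) = e W' (powS (resA f h) i x))
  (hgood : ∀ W : X.affineOpens, Good L W.1)

variable {S : Type u} [CommRing S] [Algebra k S] {S' : Type u} [CommRing S'] [Algebra k S']

/-- The differential form of a section. -/
noncomputable def eI (W : X.affineOpens) (s : Sec L W.1) : ⋀[SA f W.1]^i Ω[SA f W.1⁄k] :=
  (e W).symm (show Γ(L, W.1) from s)

theorem eI_add (W : X.affineOpens) (s t : Sec L W.1) : eI f e W (s + t) = eI f e W s + eI f e W t :=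
  map_add (e W).symm (show Γ(L, W.1) from s) (show Γ(L, W.1) from t)

theorem eI_smul (W : X.affineOpens) (c : Γ(X, W.1)) (s : Sec L W.1) :
    eI f e W (c • s) = (show SA f W.1 from c) • eI f e W s :=
  map_smul (e W).symm (show SA f W.1 from c) (show Γ(L, W.1) from s)

include he in
theorem eI_res (W W' : X.affineOpens) (h : W'.1 ≤ W.1) (s : Sec L W.1) :
    eI f e W' (res L h s) = powS (resA f h) i (eI f e W s) := by
  obtain ⟨x, hx⟩ := (e W).surjective (show Γ(L, W.1) from s)
  have hx' : (e W).symm (show Γ(L, W.1) from s) = x := by rw [← hx, LinearEquiv.symm_apply_apply]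
  change (e W').symm (L.presheaf.map (homOfLE h).op (show Γ(L, W.1) from s)) =
    powS (resA f h) i ((e W).symm (show Γ(L, W.1) from s))
  rw [hx', ← hx, he W W' h x, LinearEquiv.symm_apply_apply]

/-- The underlying ring homomorphism. -/
noncomputable def rh {f : X ⟶ Spec (CommRingCat.of k)} {W : X.Opens} (φ : SA f W →ₐ[k] S) : Γ(X, W) →+* S :=
  (φ : SA f W →+* S)

/-- The functional on sections of `L` over `W`. -/
noncomputable def ell (W : X.affineOpens) (φ : SA f W.1 →ₐ[k] S)
    (d : ℕ → Fin i → Module.Dual S Ω[S⁄k]) (j : ℕ) :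
    Sec L W.1 →ₛₗ[rh φ] S :=
  { toFun := fun s => lam (d j) (powS φ i (eI f e W s))
    map_add' := fun x y => by rw [eI_add, map_add, map_add]
    map_smul' := fun c x => by
      rw [eI_smul, LinearMap.map_smulₛₗ, map_smul]
      rfl }

theorem ell_apply (W : X.affineOpens) (φ : SA f W.1 →ₐ[k] S)
    (d : ℕ → Fin i → Module.Dual S Ω[S⁄k]) (j : ℕ) (s : Sec L W.1) :
    ell f e W φ d j s = lam (d j) (powS φ i (eI f e W s)) := rfl

/-- The value of a section over an affine open. -/
noncomputable def val (W : X.affineOpens) (φ : SA f W.1 →ₐ[k] S)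
    (d : ℕ → Fin i → Module.Dual S Ω[S⁄k]) (n : ℕ) (s : Sec (CohB1.tensorPow L n) W.1) : S :=
  ct (hgood W) (rh φ) (ell f e W φ d) n s

include he in
theorem val_res (W W' : X.affineOpens) (h : W'.1 ≤ W.1) (φ : SA f W.1 →ₐ[k] S)
    (φ' : SA f W'.1 →ₐ[k] S) (hφ : φ'.comp (resA f h) = φ)
    (d : ℕ → Fin i → Module.Dual S Ω[S⁄k]) (n : ℕ) (s : Sec (CohB1.tensorPow L n) W.1) :
    val f e hgood W' φ' d n (res (CohB1.tensorPow L n) h s) = val f e hgood W φ d n s := by
  subst hφ
  refine ct_res (hgood W) (hgood W') h _ _ _ _ (fun a => rfl) (fun j s => ?_) n s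
  rw [ell_apply, ell_apply, eI_res f e he W W' h, powS_powS]

theorem val_map (W : X.affineOpens) (φ : SA f W.1 →ₐ[k] S) (ψ : S →ₐ[k] S')
    (d : ℕ → Fin i → Module.Dual S Ω[S⁄k]) (d' : ℕ → Fin i → Module.Dual S' Ω[S'⁄k])
    (hd : ∀ j l a, d' j l (KaehlerDifferential.D k S' (ψ a)) = ψ (d j l (KaehlerDifferential.D k S a)))
    (n : ℕ) (s : Sec (CohB1.tensorPow L n) W.1) :
    val f e hgood W (ψ.comp φ) d' n s = ψ (val f e hgood W φ d n s) := by
  refine ct_map (hgood W) _ _ (ψ : S →+* S') _ (fun a => rfl) _ (fun j s => ?_) n s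
  rw [ell_apply, ell_apply]
  have h1 := lam_powS ψ (d j) (d' j) (fun l => (compat_iff ψ (d j l) (d' j l)).mpr (hd j l))
    (powS φ i (eI f e W s))
  rw [powS_powS] at h1
  exact h1

/-- The value vanishes at points which factor through the base field. -/
theorem val_eq_zero (hi : 0 < i) (W : X.affineOpens) (φ : SA f W.1 →ₐ[k] k)
    (d : ℕ → Fin i → Module.Dual S Ω[S⁄k]) (n : ℕ) (s : Sec (CohB1.tensorPow L (n + 1)) W.1) :
    val f e hgood W ((Algebra.ofId k S).comp φ) d (n + 1) s = 0 := by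
  refine ct_eq_zero (hgood W) _ _ n ?_ s
  ext x
  rw [ell_apply, ← powS_powS]
  have h1 : ∀ y : ⋀[k]^i Ω[k⁄k], y = 0 := by
    have : Subsingleton Ω[k⁄k] := KaehlerDifferential.subsingleton_of_surjective k k
      Function.surjective_id
    intro y
    have hy : y ∈ Submodule.span k (Set.range (exteriorPower.ιMulti k i (M := Ω[k⁄k]))) := by
      rw [exteriorPower.ιMulti_span]; trivial
    induction hy using Submodule.span_induction with
    | mem y hy =>
      obtain ⟨m, rfl⟩ := hy
      have : m ⟨0, hi⟩ = 0 := Subsingleton.elim _ _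
      exact (exteriorPower.ιMulti k i).map_coord_zero _ this
    | zero => rfl
    | add y z _ _ hy hz => rw [hy, hz, add_zero]
    | smul c y _ hy => rw [hy, smul_zero]
  rw [h1 (powS φ i (eI f e W x)), map_zero, map_zero]
  rfl

/-- The functional with values in the functions on `W`. -/
noncomputable def ellA (W : X.affineOpens) (d : Fin i → Module.Dual (SA f W.1) Ω[SA f W.1⁄k]) :
    Sec L W.1 →ₗ[Γ(X, W.1)] Γ(X, W.1) :=
  { toFun := fun s => (show Γ(X, W.1) from lam d (eI f e W s))
    map_add' := fun x y => by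
      rw [eI_add, map_add]
      rfl
    map_smul' := fun c x => by
      rw [eI_smul, map_smul]
      rfl }

theorem ellA_apply (W : X.affineOpens) (d : Fin i → Module.Dual (SA f W.1) Ω[SA f W.1⁄k])
    (s : Sec L W.1) : ellA f e W d s = lam d (eI f e W s) := rfl

theorem exists_coord (W : X.affineOpens) {ι : Type*} [LinearOrder ι]
    (b : Module.Basis ι (SA f W.1) Ω[SA f W.1⁄k]) :
    ∃ (B : Module.Basis (Set.powersetCard ι i) Γ(X, W.1) (Sec L W.1)), ∀ J,
      ∃ d : Fin i → Module.Dual (SA f W.1) Ω[SA f W.1⁄k], B.coord J = ellA f e W d := by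
  let B : Module.Basis (Set.powersetCard ι i) (SA f W.1) Γ(L, W.1) := (b.exteriorPower i).map (e W)
  let B' : Module.Basis (Set.powersetCard ι i) Γ(X, W.1) (Sec L W.1) := B
  refine ⟨B', fun J => ⟨fun l => b.coord (Set.powersetCard.ofFinEmbEquiv.symm J l), ?_⟩⟩
  ext s
  rw [ellA_apply]
  change B.coord J (show Γ(L, W.1) from s) = _
  rw [Module.Basis.coord_apply]
  change (b.exteriorPower i).repr ((e W).symm (show Γ(L, W.1) from s)) J = _
  rw [exteriorPower.basis_repr_apply]
  rfl

/-- Values on all families of functionals detect sections. -/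
theorem eq_zero_of_val (W : X.affineOpens) (φ : SA f W.1 →ₐ[k] S)
    (hφ : Function.Injective φ) {ι : Type*} [LinearOrder ι] (b : Module.Basis ι (SA f W.1) Ω[SA f W.1⁄k])
    (hext : ∀ d : Module.Dual (SA f W.1) Ω[SA f W.1⁄k], ∃ d' : Module.Dual S Ω[S⁄k],
      ∀ a, d' (KaehlerDifferential.D k S (φ a)) = φ (d (KaehlerDifferential.D k (SA f W.1) a)))
    (n : ℕ) (s : Sec (CohB1.tensorPow L n) W.1)
    (h : ∀ d : ℕ → Fin i → Module.Dual S Ω[S⁄k], val f e hgood W φ d n s = 0) : s = 0 := by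
  obtain ⟨B, hB⟩ := exists_coord f e W b
  refine eq_zero_of_basis (hgood W) B (Set.range (ellA f e W)) ⟨_, ⟨0, rfl⟩⟩
    (fun J => by obtain ⟨d, hd⟩ := hB J; exact ⟨d, hd.symm⟩) n s (fun ℓ hℓ => ?_)
  choose d hd using hℓ
  choose d' hd' using hext
  have h1 := h (fun j l => d' (d j l))
  have h2 : val f e hgood W φ (fun j l => d' (d j l)) n s =
      rh φ (ct (hgood W) (RingHom.id Γ(X, W.1)) ℓ n s) := by
    refine ct_map (hgood W) (RingHom.id Γ(X, W.1)) ℓ (rh φ) (rh φ) (fun a => rfl) _ (fun j s => ?_) n s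
    rw [ell_apply, ← hd j, ellA_apply]
    exact lam_powS φ (d j) (fun l => d' (d j l))
      (fun l => (compat_iff φ (d j l) (d' (d j l))).mpr (hd' (d j l))) (eI f e W s)
  rw [h2] at h1
  exact hφ (h1.trans (map_zero φ).symm)

end K959.OmVal
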