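import Groth.Agent.REq.K959.Link
import Groth.Agent.PerfB.ProjSpaceCover

/-!
The line through two points of projective space which lie in the complement of a common
hyperplane of the form `T_i = 0` or `T_i + T_j = 0`.
-/

set_option autoImplicit false
universe u
open CategoryTheory CategoryTheory.Limits AlgebraicGeometry

namespace K959.PnLine

open HomogeneousLocalization

/-- The base ring. -/
abbrev R0 : Type u := ULift.{u} ℤ

/-- The grading. -/
noncomputable abbrev Gr (n : ℕ) : ℕ → Submodule R0.{u} (MvPolynomial (Fin (n + 1)) R0.{u}) :=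
  CohB1.polyGrading n R0

/-- The ring homomorphism from the base ring. -/
noncomputable def cst (B : Type*) [CommRing B] : R0.{u} →+* B :=
  (Int.castRingHom B).comp (ULift.ringEquiv : R0.{u} ≃+* ℤ).toRingHom

theorem X_mem {n : ℕ} (i : Fin (n + 1)) : (MvPolynomial.X i : MvPolynomial _ R0.{u}) ∈ Gr n 1 :=
  (MvPolynomial.mem_homogeneousSubmodule 1 _).mpr (MvPolynomial.isHomogeneous_X R0 i)

/-- Values of homogeneous polynomials at proportional vectors. -/
theorem eval₂_mul_of_isHomogeneous {σ : Type*} {R S : Type*} [CommSemiring R] [CommSemiring S]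
    (φ : R →+* S) (g : σ → S) (c : S) {P : MvPolynomial σ R} {m : ℕ} (hP : P.IsHomogeneous m) :
    P.eval₂ φ (fun i => c * g i) = c ^ m * P.eval₂ φ g := by
  rw [MvPolynomial.eval₂_eq, MvPolynomial.eval₂_eq, Finset.mul_sum]
  refine Finset.sum_congr rfl fun d hd => ?_
  have hdeg : d.degree = m := by
    by_contra h
    exact MvPolynomial.mem_support_iff.mp hd (hP.coeff_eq_zero h)
  have : ∏ i ∈ d.support, (c * g i) ^ d i = c ^ m * ∏ i ∈ d.support, g i ^ d i := by
    rw [← hdeg, Finsupp.degree_apply, ← Finset.prod_pow_eq_pow_sum, ← Finset.prod_mul_distrib]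
    exact Finset.prod_congr rfl fun i _ => mul_pow _ _ _
  rw [this]
  ring

section Hom

variable {n : ℕ} {L : MvPolynomial (Fin (n + 1)) R0.{u}} (hL : L ∈ Gr n 1)

/-- The function `T_i / L`. -/
noncomputable def frac (i : Fin (n + 1)) : Away (Gr.{u} n) L :=
  Away.mk (Gr n) hL 1 (MvPolynomial.X i) (by simpa using X_mem i)

/-- Dehomogenisation. -/
noncomputable def dehom : MvPolynomial (Fin (n + 1)) R0.{u} →+* Away (Gr.{u} n) L :=
  MvPolynomial.eval₂Hom (cst _) (frac hL)

theorem dehom_X (i : Fin (n + 1)) : dehom hL (MvPolynomial.X i) = frac hL i := by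
  simp [dehom]

theorem ringHom_R0_ext {B : Type*} [NonAssocSemiring B] (f g : R0.{u} →+* B) : f = g := by
  have h : f.comp (ULift.ringEquiv.{0, u} (R := ℤ)).symm.toRingHom =
      g.comp (ULift.ringEquiv.{0, u} (R := ℤ)).symm.toRingHom := RingHom.ext_int _ _
  ext ⟨x⟩
  exact RingHom.congr_fun h x

theorem algebraMap_frac (i : Fin (n + 1)) :
    algebraMap (MvPolynomial (Fin (n + 1)) R0.{u}) (Localization.Away L) (MvPolynomial.X i) =
      algebraMap (MvPolynomial (Fin (n + 1)) R0.{u}) (Localization.Away L) L *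
        (frac hL i).val := by
  rw [ frac, Away.val_mk, ← Localization.mk_one_eq_algebraMap,
    ← Localization.mk_one_eq_algebraMap, Localization.mk_mul, Localization.mk_eq_mk_iff,
    Localization.r_iff_exists]
  refine ⟨1, ?_⟩
  simp

theorem dehom_eq (m : ℕ) (P : MvPolynomial (Fin (n + 1)) R0.{u}) (hP : P ∈ Gr n (m • 1)) :
    dehom hL P = Away.mk (Gr n) hL m P hP := by
  apply HomogeneousLocalization.val_injective
  rw [Away.val_mk]
  let ρ : MvPolynomial (Fin (n + 1)) R0.{u} →+* Localization.Away L :=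
    (algebraMap (Away (Gr.{u} n) L) (Localization.Away L)).comp (dehom hL)
  have h1 : algebraMap (MvPolynomial (Fin (n + 1)) R0.{u}) (Localization.Away L) P =
      algebraMap _ (Localization.Away L) L ^ m * ρ P := by
    have hP' : P.IsHomogeneous m := by
      have : m • 1 = m := by simp
      rw [this] at hP
      exact hP
    have e1 : ∀ (τ : MvPolynomial (Fin (n + 1)) R0.{u} →+* Localization.Away L),
        τ P = P.eval₂ (cst _)
          (fun i => τ (MvPolynomial.X i)) := by
      intro τ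
      have : τ = MvPolynomial.eval₂Hom (cst _)
          (fun i => τ (MvPolynomial.X i)) :=
        MvPolynomial.ringHom_ext' (ringHom_R0_ext _ _) (by simp)
      exact RingHom.congr_fun this P
    rw [e1 (algebraMap _ _), e1 ρ, ← eval₂_mul_of_isHomogeneous _ _ _ hP']
    congr 1
    funext i
    rw [algebraMap_frac hL i]
    have e3 : ρ (MvPolynomial.X i) = (dehom hL (MvPolynomial.X i)).val := rfl
    rw [e3, dehom_X]
  have h2 : (dehom hL P).val = ρ P := rfl
  rw [h2, Localization.mk_eq_mk', eq_comm, IsLocalization.mk'_eq_iff_eq_mul, h1, map_pow, mul_comm]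

theorem dehom_self : dehom hL L = 1 := by
  rw [dehom_eq hL 1 L (by simpa using hL)]
  apply HomogeneousLocalization.val_injective
  rw [Away.val_mk, HomogeneousLocalization.val_one, ← Localization.mk_one,
    Localization.mk_eq_mk_iff, Localization.r_iff_exists]
  exact ⟨1, by simp⟩

include hL in
theorem hom_ext' {B : Type*} [CommRing B] {χ χ' : Away (Gr.{u} n) L →+* B}
    (h : ∀ i, χ (frac hL i) = χ' (frac hL i)) : χ = χ' := by
  have h1 : χ.comp (dehom hL) = χ'.comp (dehom hL) := by
    refine MvPolynomial.ringHom_ext' (ringHom_R0_ext _ _) fun i => ?_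
    simp [dehom_X, h i]
  ext x
  obtain ⟨m, P, hP, rfl⟩ := Away.mk_surjective (Gr.{u} n) hL x
  rw [← dehom_eq hL m P hP]
  exact RingHom.congr_fun h1 P

/-- A ring homomorphism out of the chart ring from one out of the polynomial ring. -/
noncomputable def ofHom {B : Type*} [CommRing B] (ψ : MvPolynomial (Fin (n + 1)) R0.{u} →+* B)
    (h : ψ L = 1) : Away (Gr.{u} n) L →+* B :=
  (IsLocalization.Away.lift (S := Localization.Away L) L (g := ψ) (by rw [h]; exact isUnit_one)).comp
    (algebraMap (Away (Gr.{u} n) L) (Localization.Away L))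

theorem ofHom_frac {B : Type*} [CommRing B] (ψ : MvPolynomial (Fin (n + 1)) R0.{u} →+* B)
    (h : ψ L = 1) (i : Fin (n + 1)) : ofHom ψ h (frac hL i) = ψ (MvPolynomial.X i) := by
  have hu : IsUnit (ψ L) := by rw [h]; exact isUnit_one
  have e := congrArg (IsLocalization.Away.lift (S := Localization.Away L) L (g := ψ) hu)
    (algebraMap_frac hL i)
  rw [map_mul, IsLocalization.Away.lift_eq, IsLocalization.Away.lift_eq, h, one_mul] at e
  exact e.symm

variable {K : Type u} [Field K]

/-- The line through two points of the chart. -/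
theorem exists_line (hL : L ∈ Gr n 1) (hform : ∃ i j, L = MvPolynomial.X i ∨ L = MvPolynomial.X i + MvPolynomial.X j)
    (α β : Away (Gr.{u} n) L →+* K) : ∃ γ : Away (Gr.{u} n) L →+* Polynomial K,
      (Polynomial.evalRingHom 0).comp γ = α ∧ (Polynomial.evalRingHom 1).comp γ = β := by
  let w : Fin (n + 1) → Polynomial K := fun i => Polynomial.C (α (frac hL i)) +
    Polynomial.X * Polynomial.C (β (frac hL i) - α (frac hL i))
  let ψ : MvPolynomial (Fin (n + 1)) R0.{u} →+* Polynomial K :=
    MvPolynomial.eval₂Hom (cst _) w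
  have hψX : ∀ i, ψ (MvPolynomial.X i) = w i := fun i => by simp [ψ]
  have hψ : ψ L = 1 := by
    have hd := dehom_self hL
    obtain ⟨i, j, hij⟩ := hform
    rcases hij with hij | hij
    · have e : frac hL i = 1 := by rw [← dehom_X, ← hij, hd]
      rw [hij, hψX]
      simp only [w]
      rw [e, map_one, map_one, map_one, sub_self, map_zero, mul_zero, add_zero]
    · have e : frac hL i + frac hL j = 1 := by rw [← dehom_X, ← dehom_X, ← map_add, ← hij, hd]
      rw [hij, map_add, hψX, hψX]
      have ea : α (frac hL i) + α (frac hL j) = 1 := by rw [← map_add, e, map_one]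
      have eb : β (frac hL i) + β (frac hL j) = 1 := by rw [← map_add, e, map_one]
      calc w i + w j = Polynomial.C (α (frac hL i) + α (frac hL j)) +
            Polynomial.X * Polynomial.C ((β (frac hL i) + β (frac hL j)) -
              (α (frac hL i) + α (frac hL j))) := by
            simp only [w, map_add, map_sub]; ring
        _ = 1 := by rw [ea, eb, sub_self, map_zero, mul_zero, add_zero, map_one]
  refine ⟨ofHom ψ hψ, ?_, ?_⟩
  · apply hom_ext' hL
    intro i
    rw [RingHom.comp_apply, ofHom_frac, hψX]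
    simp [w]
  · apply hom_ext' hL
    intro i
    rw [RingHom.comp_apply, ofHom_frac, hψX]
    simp [w]

end Hom

/-- Two points lie in a common chart. -/
theorem exists_form (n : ℕ) (x y : Proj (Gr.{u} n)) :
    ∃ (L : MvPolynomial (Fin (n + 1)) R0.{u}) (_ : L ∈ Gr n 1),
      (∃ i j, L = MvPolynomial.X i ∨ L = MvPolynomial.X i + MvPolynomial.X j) ∧
      x ∈ Proj.basicOpen (Gr n) L ∧ y ∈ Proj.basicOpen (Gr n) L := by
  obtain ⟨i, hi⟩ := Groth.Agent.PerfB.ProjSpaceCover.exists_mem_basicOpen_X n R0.{u} x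
  obtain ⟨j, hj⟩ := Groth.Agent.PerfB.ProjSpaceCover.exists_mem_basicOpen_X n R0.{u} y
  by_cases h1 : y ∈ Proj.basicOpen (Gr n) (MvPolynomial.X i)
  · exact ⟨_, X_mem i, ⟨i, i, Or.inl rfl⟩, hi, h1⟩
  by_cases h2 : x ∈ Proj.basicOpen (Gr n) (MvPolynomial.X j)
  · exact ⟨_, X_mem j, ⟨j, j, Or.inl rfl⟩, h2, hj⟩
  refine ⟨MvPolynomial.X i + MvPolynomial.X j, add_mem (X_mem i) (X_mem j), ⟨i, j, Or.inr rfl⟩,
    ?_, ?_⟩
  · rw [Proj.mem_basicOpen] at h2 hi ⊢
    push Not at h2
    intro hmem
    exact hi ((Ideal.add_mem_iff_left _ h2).mp hmem)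
  · rw [Proj.mem_basicOpen] at h1 hj ⊢
    push Not at h1
    intro hmem
    exact hj ((Ideal.add_mem_iff_right _ h1).mp hmem)

open REq K959.Link

section Chart

variable {n : ℕ} (L : MvPolynomial (Fin (n + 1)) R0.{u}) (hL : L ∈ Gr n 1)

/-- The chart `L ≠ 0`. -/
noncomputable def chart : Spec (CommRingCat.of (Away (Gr.{u} n) L)) ⟶ CohB1.ProjSpace n R0.{u} :=
  Proj.awayι (Gr n) L hL one_pos

instance isOpenImmersion_chart : IsOpenImmersion (chart L hL) := by
  unfold chart CohB1.ProjSpace
  infer_instance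

theorem mem_range_chart (x : CohB1.ProjSpace n R0.{u}) :
    x ∈ Set.range (chart L hL) ↔ (show Proj (Gr.{u} n) from x) ∈ Proj.basicOpen (Gr n) L := by
  rw [← Proj.opensRange_awayι (Gr.{u} n) L hL one_pos]
  exact Iff.rfl

end Chart

theorem elemLink (k : Type u) [Field k] (n : ℕ)
    (V : (CohB1.ProjSpaceOver n (Spec (CommRingCat.of k))).Opens) (K : Type u) [Field K] [Algebra k K]
    (A B : Pts (V.ι ≫ CohB1.ProjSpaceOver.toBase n (Spec (CommRingCat.of k))) K) :
    ElemLink (V.ι ≫ CohB1.ProjSpaceOver.toBase n (Spec (CommRingCat.of k))) K A B := by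
  let q : CohB1.ProjSpaceOver n (Spec (CommRingCat.of k)) ⟶ CohB1.ProjSpace n R0.{u} :=
    pullback.fst _ _
  let z : Spec (CommRingCat.of K) := IsLocalRing.closedPoint K
  obtain ⟨L, hL, hform, hx, hy⟩ := exists_form n (q (V.ι (A.1 z))) (q (V.ι (B.1 z)))
  have hrange : ∀ C : Spec (CommRingCat.of K) ⟶ CohB1.ProjSpace n R0.{u},
      C z ∈ Set.range (chart L hL) → ∃ α : Away (Gr.{u} n) L →+* K,
        C = Spec.map (CommRingCat.ofHom α) ≫ chart L hL := by
    intro C hC
    have hr : Set.range C ⊆ Set.range (chart L hL) := by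
      rintro _ ⟨y, rfl⟩
      have hyz : y = z := Subsingleton.elim _ _
      rw [hyz]
      exact hC
    obtain ⟨φ, hφ⟩ := Spec.map_surjective
      (IsOpenImmersion.lift (chart L hL) C hr)
    exact ⟨φ.hom, by
      rw [CommRingCat.ofHom_hom, hφ]; exact (IsOpenImmersion.lift_fac _ _ _).symm⟩
  obtain ⟨α, hα⟩ := hrange (A.1 ≫ V.ι ≫ q) ((mem_range_chart L hL _).mpr hx)
  obtain ⟨β, hβ⟩ := hrange (B.1 ≫ V.ι ≫ q) ((mem_range_chart L hL _).mpr hy)
  obtain ⟨γ, hγ0, hγ1⟩ := exists_line hL hform α β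
  let c : Spec (CommRingCat.of (Polynomial K)) ⟶ CohB1.ProjSpaceOver n (Spec (CommRingCat.of k)) :=
    pullback.lift (Spec.map (CommRingCat.ofHom γ) ≫ chart L hL)
      (Spec.map (CommRingCat.ofHom Polynomial.C) ≫ specMap k K)
      (specULiftZIsTerminal.hom_ext _ _)
  have hcs : c ≫ CohB1.ProjSpaceOver.toBase n (Spec (CommRingCat.of k)) =
      Spec.map (CommRingCat.ofHom Polynomial.C) ≫ specMap k K := pullback.lift_snd _ _ _
  have hcf : c ≫ q = Spec.map (CommRingCat.ofHom γ) ≫ chart L hL :=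
    pullback.lift_fst _ _ _
  refine elemLink_of_poly _ V c hcs 0 1 A B ?_ ?_
  · apply pullback.hom_ext
    · change (A.1 ≫ V.ι) ≫ q = (_ ≫ c) ≫ q
      rw [Category.assoc, Category.assoc, hα, hcf, ← Spec.map_comp_assoc, ← CommRingCat.ofHom_comp,
        hγ0]
    · change (A.1 ≫ V.ι) ≫ CohB1.ProjSpaceOver.toBase n (Spec (CommRingCat.of k)) =
        (_ ≫ c) ≫ CohB1.ProjSpaceOver.toBase n (Spec (CommRingCat.of k))
      refine (Category.assoc _ _ _).trans (A.2.trans ?_)
      rw [Category.assoc, hcs, ← Category.assoc, eval_C, Category.id_comp]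
  · apply pullback.hom_ext
    · change (B.1 ≫ V.ι) ≫ q = (_ ≫ c) ≫ q
      rw [Category.assoc, Category.assoc, hβ, hcf, ← Spec.map_comp_assoc, ← CommRingCat.ofHom_comp,
        hγ1]
    · change (B.1 ≫ V.ι) ≫ CohB1.ProjSpaceOver.toBase n (Spec (CommRingCat.of k)) =
        (_ ≫ c) ≫ CohB1.ProjSpaceOver.toBase n (Spec (CommRingCat.of k))
      refine (Category.assoc _ _ _).trans (B.2.trans ?_)
      rw [Category.assoc, hcs, ← Category.assoc, eval_C, Category.id_comp]

end K959.PnLine
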