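import Groth.Agent.REq.K959.OmPt
import Mathlib.RingTheory.Spectrum.Maximal.Localization

/-!
# Values along a morphism from the spectrum of a domain
-/

set_option autoImplicit false
universe u
open CategoryTheory CategoryTheory.Limits AlgebraicGeometry Opposite TopologicalSpace
open scoped TensorProduct

namespace K959.OmVal

open Groth.Agent.Lefpen.H721.OmegaSec Groth.Agent.Lefpen.H721.OmegaPow Groth.Agent.Sga67.Sec
  Groth.Agent.CurvesB.OmegaStalkDict K959.CtSec K959.Contract K959.ArcGeom

theorem compat_of_localization {k S S' S'' : Type*} [CommRing k] [CommRing S] [CommRing S']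
    [CommRing S''] [Algebra k S] [Algebra k S'] [Algebra k S''] [Algebra S S'] [IsScalarTower k S S']
    (M : Submonoid S) [IsLocalization M S'] (ψ : S' →ₐ[k] S'') (d' : Module.Dual S' Ω[S'⁄k])
    (d'' : Module.Dual S'' Ω[S''⁄k])
    (h : ∀ a : S, d'' (KaehlerDifferential.D k S'' (ψ (algebraMap S S' a))) =
      ψ (d' (KaehlerDifferential.D k S' (algebraMap S S' a)))) (a : S') :
    d'' (KaehlerDifferential.D k S'' (ψ a)) = ψ (d' (KaehlerDifferential.D k S' a)) := by
  have key : ∀ x : Ω[S'⁄k], d'' (omS ψ x) = ψ (d' x) := by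
    intro x
    have hx : x ∈ Submodule.span S' (Set.range (KaehlerDifferential.map k k S S' ∘
        KaehlerDifferential.D k S)) := by
      rw [KaehlerDifferential.span_range_map_derivation_of_isLocalization k S S' M]; trivial
    induction hx using Submodule.span_induction with
    | mem x hx =>
      obtain ⟨a, rfl⟩ := hx
      rw [Function.comp_apply, KaehlerDifferential.map_D, omS_D]
      exact h a
    | zero => simp only [map_zero]
    | add x y _ _ hx hy => simp only [map_add, hx, hy]
    | smul c x _ hx =>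
      rw [LinearMap.map_smulₛₗ, map_smul, map_smul, smul_eq_mul, smul_eq_mul, map_mul, hx]
      rfl
  rw [← key, omS_D]

variable {k : Type u} [Field k] {X : Scheme.{u}} (f : X ⟶ Spec (CommRingCat.of k))
  {i : ℕ} {L : X.Modules}
  (e : ∀ W : X.affineOpens, ⋀[SA f W.1]^i Ω[SA f W.1⁄k] ≃ₗ[SA f W.1] Γ(L, W.1))
  (he : ∀ (W W' : X.affineOpens) (h : W'.1 ≤ W.1) (x : ⋀[SA f W.1]^i Ω[SA f W.1⁄k]),
        L.presheaf.map (homOfLE h).op (e W x) = e W' (powS (resA f h) i x))
  (hgood : ∀ W : X.affineOpens, Good L W.1) {n : ℕ} (α : Sec (CohB1.tensorPow L n) (⊤ : X.Opens))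

include he in
/-- Along a morphism from the spectrum of a domain `B` and derivations of `B`, the values of `α` at local
points are the values of one element of `B`. -/
theorem exists_val_of_domain {B : Type u} [CommRing B] [IsDomain B] [Algebra k B]
    (c : Spec (CommRingCat.of B) ⟶ X)
    (hc : c ≫ f = Spec.map (CommRingCat.ofHom (algebraMap k B)))
    (d : ℕ → Fin i → Module.Dual B Ω[B⁄k]) :
    ∃ w : B, ∀ (S' : Type u) [CommRing S'] [IsLocalRing S'] [Algebra k S'] (ev : B →ₐ[k] S')
      (d' : ℕ → Fin i → Module.Dual S' Ω[S'⁄k])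
      (_ : ∀ j l a, d' j l (KaehlerDifferential.D k S' (ev a)) =
        ev (d j l (KaehlerDifferential.D k B a))),
      IsVal f e hgood α (Spec.map (CommRingCat.ofHom (ev : B →+* S')) ≫ c) d' (ev w) := by
  let F := FractionRing B
  choose dF hdF using fun (j : ℕ) (l : Fin i) =>
    exists_extend (S' := F) (nonZeroDivisors B) (d j l)
  let toF : B →ₐ[k] F := IsScalarTower.toAlgHom k B F
  obtain ⟨vF, hvF⟩ := exists_isVal f e hgood α (Spec.map (CommRingCat.ofHom (toF : B →+* F)) ≫ c)
    (by
      rw [Category.assoc, hc, ← Spec.map_comp, ← CommRingCat.ofHom_comp]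
      congr 2) dF
  -- values in the localizations
  have key : ∀ p : Ideal B, (hp : p.IsPrime) → ∃ v : Localization.AtPrime p,
      (IsLocalization.lift (M := p.primeCompl) (g := algebraMap B F)
        (fun y => (IsUnit.mk0 _ (fun h0 => y.2 (by
          rw [(IsFractionRing.to_map_eq_zero_iff (K := F)).mp h0]; exact p.zero_mem)))) v = vF) ∧
      ∀ (S' : Type u) [CommRing S'] [IsLocalRing S'] [Algebra k S'] (ev : B →ₐ[k] S')
        (hev : ∀ y : p.primeCompl, IsUnit (ev y))
      (d' : ℕ → Fin i → Module.Dual S' Ω[S'⁄k])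
      (_ : ∀ j l a, d' j l (KaehlerDifferential.D k S' (ev a)) =
        ev (d j l (KaehlerDifferential.D k B a))),
      IsVal f e hgood α (Spec.map (CommRingCat.ofHom (ev : B →+* S')) ≫ c) d'
        (IsLocalization.lift (M := p.primeCompl) (g := (ev : B →+* S')) hev v) := by
    intro p hp
    let Bp := Localization.AtPrime p
    choose dp hdp using fun (j : ℕ) (l : Fin i) =>
      exists_extend (S' := Bp) p.primeCompl (d j l)
    let top : B →ₐ[k] Bp := IsScalarTower.toAlgHom k B Bp
    obtain ⟨v, hv⟩ := exists_isVal f e hgood α (Spec.map (CommRingCat.ofHom (top : B →+* Bp)) ≫ c)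
      (by
        rw [Category.assoc, hc, ← Spec.map_comp, ← CommRingCat.ofHom_comp]
        congr 2) dp
    have hmap : ∀ (S' : Type u) [CommRing S'] [IsLocalRing S'] [Algebra k S'] (ev : B →ₐ[k] S')
        (hev : ∀ y : p.primeCompl, IsUnit (ev y))
        (d' : ℕ → Fin i → Module.Dual S' Ω[S'⁄k])
        (_ : ∀ j l a, d' j l (KaehlerDifferential.D k S' (ev a)) =
          ev (d j l (KaehlerDifferential.D k B a))),
        IsVal f e hgood α (Spec.map (CommRingCat.ofHom (ev : B →+* S')) ≫ c) d'
          (IsLocalization.lift (M := p.primeCompl) (g := (ev : B →+* S')) hev v) := by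
      intro S' _ _ _ ev hev d' hd'
      let ψ : Bp →ₐ[k] S' := IsLocalization.liftAlgHom (M := p.primeCompl) (f := ev) hev
      have hψ : ∀ b, ψ (algebraMap B Bp b) = ev b := fun b => IsLocalization.lift_eq hev b
      have h1 := hv.map f e hgood α ψ d' (fun j l => compat_of_localization p.primeCompl ψ (dp j l)
        (d' j l) (fun a => by rw [hψ, hd', hdp, hψ]))
      have h2 : Spec.map (CommRingCat.ofHom (ψ : Bp →+* S')) ≫
          Spec.map (CommRingCat.ofHom (top : B →+* Bp)) ≫ c =
          Spec.map (CommRingCat.ofHom (ev : B →+* S')) ≫ c := by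
        rw [← Category.assoc, ← Spec.map_comp, ← CommRingCat.ofHom_comp]
        congr 3
        ext b
        exact hψ b
      rw [h2] at h1
      exact h1
    refine ⟨v, ?_, hmap⟩
    have h1 := hmap F toF (fun y => (IsUnit.mk0 _ (fun h0 => y.2 (by
          rw [(IsFractionRing.to_map_eq_zero_iff (K := F)).mp h0]; exact p.zero_mem)))) dF hdF
    exact h1.unique f e he hgood α hvF
  -- the value in the fraction field lies in the ring
  have hmem : vF ∈ (⊥ : Subalgebra B F) := by
    rw [← PrimeSpectrum.iInf_localization_eq_bot B F, Algebra.mem_iInf]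
    intro p
    obtain ⟨v, hv, -⟩ := key p.asIdeal p.isPrime
    obtain ⟨⟨a, s⟩, has⟩ := IsLocalization.surj p.asIdeal.primeCompl v
    refine ⟨a, s, s.2, ?_⟩
    have h1 := congrArg (IsLocalization.lift (M := p.asIdeal.primeCompl) (g := algebraMap B F)
        (fun y => (IsUnit.mk0 _ (fun h0 => y.2 (by
          rw [(IsFractionRing.to_map_eq_zero_iff (K := F)).mp h0]; exact p.asIdeal.zero_mem))))) has
    rw [map_mul, hv, IsLocalization.lift_eq, IsLocalization.lift_eq] at h1
    rw [← h1]
    have hs : algebraMap B F s ≠ 0 := fun h0 => s.2 (by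
          rw [(IsFractionRing.to_map_eq_zero_iff (K := F)).mp h0]; exact p.asIdeal.zero_mem)
    rw [mul_assoc, mul_inv_cancel₀ hs, mul_one]
  obtain ⟨w, hw⟩ := Algebra.mem_bot.mp hmem
  refine ⟨w, fun S' _ _ _ ev d' hd' => ?_⟩
  let p : Ideal B := (IsLocalRing.maximalIdeal S').comap (ev : B →+* S')
  have hp : p.IsPrime := inferInstance
  have hev : ∀ y : p.primeCompl, IsUnit (ev y) := fun y => by
    by_contra h
    exact y.2 ((IsLocalRing.mem_maximalIdeal _).mpr h)
  obtain ⟨v, hv, hmap⟩ := key p hp
  have h1 := hmap S' ev hev d' hd'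
  have h2 : v = algebraMap B (Localization.AtPrime p) w := by
    obtain ⟨⟨a, s⟩, has⟩ := IsLocalization.surj p.primeCompl v
    have h3 := congrArg (IsLocalization.lift (M := p.primeCompl) (g := algebraMap B F)
        (fun y => (IsUnit.mk0 _ (fun h0 => y.2 (by
          rw [(IsFractionRing.to_map_eq_zero_iff (K := F)).mp h0]; exact p.zero_mem))))) has
    rw [map_mul, hv, IsLocalization.lift_eq, IsLocalization.lift_eq, ← hw, ← map_mul] at h3
    have h4 : w * s = a := IsFractionRing.injective B F h3
    have hs : IsUnit (algebraMap B (Localization.AtPrime p) s) := IsLocalization.map_units _ s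
    apply hs.mul_right_cancel
    rw [has, ← map_mul, h4]
  have h3 : IsLocalization.lift (M := p.primeCompl) (g := (ev : B →+* S')) hev
      (algebraMap B (Localization.AtPrime p) w) = ev w := IsLocalization.lift_eq _ w
  rw [h2, h3] at h1
  exact h1

end K959.OmVal
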