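import Groth.Agent.REq.K959.Aff
import Mathlib.Algebra.MvPolynomial.Funext

/-!
Rational points of nonempty open subschemes of affine space over an infinite field; lifting
points to an open subscheme.
-/

set_option autoImplicit false
universe u
open CategoryTheory CategoryTheory.Limits AlgebraicGeometry

namespace K959.RatPt

open REq K959.Link K959.Aff

variable {k : Type u} [Field k]

/-- A nonempty open subscheme of affine space over an infinite field has a rational point. -/
theorem exists_pt [Infinite k] (n : ℕ) (V : (Spec (CommRingCat.of (MvPolynomial (Fin n) k))).Opens)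
    (hV : (V : Set (Spec (CommRingCat.of (MvPolynomial (Fin n) k)))).Nonempty) :
    ∃ a : Spec (CommRingCat.of k) ⟶ (V : Scheme.{u}), a ≫ V.ι ≫ str k n = 𝟙 _ := by
  obtain ⟨x, hx⟩ := hV
  obtain ⟨_, ⟨_, ⟨h, rfl⟩, rfl⟩, hxh, hhV⟩ :=
    PrimeSpectrum.isBasis_basic_opens.exists_subset_of_mem_open hx V.isOpen
  have hh : h ≠ 0 := by
    rintro rfl
    exact hxh (Ideal.zero_mem _)
  obtain ⟨c, hc⟩ : ∃ c : Fin n → k, MvPolynomial.eval c h ≠ 0 := by
    by_contra hcon
    push Not at hcon
    exact hh (MvPolynomial.funext fun c => by rw [hcon c, map_zero])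
  let φ : MvPolynomial (Fin n) k →+* k := MvPolynomial.eval c
  have hr : Set.range (Spec.map (CommRingCat.ofHom φ)) ⊆ Set.range V.ι := by
    rintro _ ⟨y, rfl⟩
    rw [Scheme.Opens.range_ι]
    apply hhV
    change ¬ (φ h ∈ y.asIdeal)
    intro hmem
    exact y.2.ne_top (Ideal.eq_top_of_isUnit_mem _ hmem (isUnit_iff_ne_zero.mpr hc))
  refine ⟨IsOpenImmersion.lift V.ι (Spec.map (CommRingCat.ofHom φ)) hr, ?_⟩
  rw [IsOpenImmersion.lift_fac_assoc, ← Spec.map_comp, ← CommRingCat.ofHom_comp]
  have : φ.comp (algebraMap k (MvPolynomial (Fin n) k)) = RingHom.id k := by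
    ext r; simp [φ, MvPolynomial.algebraMap_eq]
  rw [this]
  exact Spec.map_id _

variable {K : Type u} [Field K] [Algebra k K] {X : Scheme.{u}} (f : X ⟶ Spec (CommRingCat.of k))

/-- A point in an open subscheme, as a point of the open subscheme. -/
noncomputable def liftPt (U : X.Opens) (A : Pts f K) (hA : InOpen f U A) : Pts (U.ι ≫ f) K :=
  ⟨IsOpenImmersion.lift U.ι A.1 (by rw [Scheme.Opens.range_ι]; exact hA), by
    rw [IsOpenImmersion.lift_fac_assoc]; exact A.2⟩

theorem liftPt_map (U : X.Opens) (A : Pts f K) (hA : InOpen f U A) :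
    Pts.map (U.ι ≫ f) (g := f) U.ι rfl (liftPt f U A hA) = A :=
  Subtype.ext (IsOpenImmersion.lift_fac _ _ _)

/-- Direct links in an open subscheme give direct links. -/
theorem elemLink_of_lift (U : X.Opens) (A B : Pts f K) (hA : InOpen f U A) (hB : InOpen f U B)
    (h : ElemLink (U.ι ≫ f) K (liftPt f U A hA) (liftPt f U B hB)) : ElemLink f K A B := by
  have := ElemLink.map (U.ι ≫ f) (g := f) U.ι rfl h
  rwa [liftPt_map, liftPt_map] at this

end K959.RatPt
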