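import Groth.Agent.REq.K959.ArcGeom
import Groth.Agent.REq.K959.Germ
import Groth.Agent.S1535
import Mathlib.AlgebraicGeometry.Geometrically.Integral

/-!
Every rational point of a smooth geometrically integral variety is the closed point of a germ of
curve which meets a given nonempty open.
-/

set_option autoImplicit false
set_option linter.style.haveILetI false
universe u
open CategoryTheory CategoryTheory.Limits AlgebraicGeometry

namespace K959.SmoothPt

open REq K959.Link K959.Aff K959.ArcCore K959.ArcGeom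

variable {k K : Type u} [Field k] [Field K] [Algebra k K] {X : Scheme.{u}}
  (f : X ⟶ Spec (CommRingCat.of k))

theorem main [LocallyOfFiniteType f] [Smooth f] [GeometricallyIntegral f] [Infinite K]
    (U : X.Opens) (hU : (U : Set X).Nonempty) (n : ℕ)
    (V : (Spec (CommRingCat.of (MvPolynomial (Fin n) k))).Opens)
    (a : (U : Scheme.{u}) ⟶ (V : Scheme.{u})) (b : (V : Scheme.{u}) ⟶ (U : Scheme.{u}))
    (hab : a ≫ b = 𝟙 (U : Scheme.{u})) (ha : a ≫ V.ι ≫ str k n = U.ι ≫ f)
    (hb : b ≫ U.ι ≫ f = V.ι ≫ str k n) (x : Pts f K) (hxU : ¬ InOpen f U x) :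
    ∃ y : Pts f K, InOpen f U y ∧ ElemLink f K x y := by
  let XK := pullback f (specMap k K)
  let p1 : XK ⟶ X := pullback.fst f (specMap k K)
  let p2 : XK ⟶ Spec (CommRingCat.of K) := pullback.snd f (specMap k K)
  have hcomm : p1 ≫ f = p2 ≫ specMap k K := pullback.condition
  have hint : IsIntegral XK :=
    GeometricallyIntegral.geometrically_isIntegral (f := f) (specMap k K) p1 p2
      (IsPullback.of_hasPullback f (specMap k K))
  have hsm : Smooth p2 := inferInstance
  letI : XK.Over (Spec (CommRingCat.of K)) := ⟨p2⟩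
  have hsm' : Smooth (XK ↘ (Spec (CommRingCat.of K))) := hsm
  -- the rational point of `XK`
  let x' : Spec (CommRingCat.of K) ⟶ XK := pullback.lift x.1 (𝟙 _) (by rw [x.2, Category.id_comp])
  have hx1 : x' ≫ p1 = x.1 := pullback.lift_fst _ _ _
  have hx2 : x' ≫ p2 = 𝟙 _ := pullback.lift_snd _ _ _
  let z : XK := x' (IsLocalRing.closedPoint K)
  let O := XK.presheaf.stalk z
  have hreg : IsRegularLocalRing O := Groth.Agent.S1535.result K XK z
  have hOdom : IsDomain O := Groth.Agent.S0558.result O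
  let j : Spec O ⟶ XK := XK.fromSpecStalk z
  let ρ₀ : O ⟶ CommRingCat.of K := Scheme.stalkClosedPointTo x'
  have hρ₀ : Spec.map ρ₀ ≫ j = x' := Scheme.Spec_stalkClosedPointTo_fromSpecStalk x'
  obtain ⟨κ, hκ⟩ := Spec.map_surjective (j ≫ p2)
  have hκρ : ∀ c : K, ρ₀.hom (κ.hom c) = c := by
    have h1 : Spec.map (κ ≫ ρ₀) = 𝟙 _ := by
      rw [Spec.map_comp, hκ, reassoc_of% hρ₀, hx2]
    have h2 : κ ≫ ρ₀ = 𝟙 _ := Spec.map_injective (by rw [h1, Spec.map_id])
    intro c
    exact congrArg (fun φ : CommRingCat.of K ⟶ CommRingCat.of K => φ.hom c) h2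
  -- the open of `Spec O`
  let U' : (Spec O).Opens := (j ≫ p1) ⁻¹ᵁ U
  have hgenXK : genericPoint XK ∈ p1 ⁻¹ᵁ U := by
    have hne : ((p1 ⁻¹ᵁ U : XK.Opens) : Set XK).Nonempty := by
      obtain ⟨w, hw⟩ := hU
      have hsurj : Surjective p1 := by
        have : Surjective (specMap k K) := by
          refine ⟨fun y => ⟨IsLocalRing.closedPoint K, Subsingleton.elim _ _⟩⟩
        infer_instance
      obtain ⟨w', hw'⟩ := hsurj.surj w
      exact ⟨w', by change p1 w' ∈ U; rw [hw']; exact hw⟩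
    exact ((genericPoint_spec XK).mem_open_set_iff (p1 ⁻¹ᵁ U).isOpen).mpr
      (by simpa using hne)
  have hbot : (⟨⊥, Ideal.isPrime_bot⟩ : Spec O) ∈ U' := by
    change (j ≫ p1) (⟨⊥, Ideal.isPrime_bot⟩ : Spec O) ∈ U
    obtain ⟨w, hw⟩ : genericPoint XK ∈ Set.range j := by
      rw [Scheme.range_fromSpecStalk]
      exact (genericPoint_specializes _)
    have hspec : (⟨⊥, Ideal.isPrime_bot⟩ : Spec O) ⤳ w := by
      exact (PrimeSpectrum.le_iff_specializes (⟨⊥, Ideal.isPrime_bot⟩ : PrimeSpectrum O) w).mp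
        (bot_le : (⊥ : Ideal O) ≤ w.asIdeal)
    have h1 : (j ≫ p1) w ∈ U := by
      rw [Scheme.Hom.comp_apply, hw]
      exact hgenXK
    exact (hspec.map (j ≫ p1).continuous).mem_open U.isOpen h1
  obtain ⟨_, ⟨_, ⟨g, rfl⟩, rfl⟩, hgb, hgU⟩ :=
    PrimeSpectrum.isBasis_basic_opens.exists_subset_of_mem_open hbot U'.isOpen
  have hg0 : g ≠ 0 := by
    rintro rfl
    exact hgb (Ideal.zero_mem _)
  -- `O` is not a field, as the point is not in `U`
  have hOf : ¬ IsField O := by
    intro hOf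
    apply hxU
    have hzU : (IsLocalRing.closedPoint O : Spec O) ∈ U' := by
      have : (IsLocalRing.closedPoint O : Spec O) = ⟨⊥, Ideal.isPrime_bot⟩ := by
        apply PrimeSpectrum.ext
        exact IsLocalRing.isField_iff_maximalIdeal_eq.mp hOf
      rw [this]
      exact hbot
    rintro _ ⟨y, rfl⟩
    have hy : y = IsLocalRing.closedPoint K := Subsingleton.elim _ _
    rw [hy, ← hx1]
    change p1 (x' (IsLocalRing.closedPoint K)) ∈ U
    have h1 : p1 (j (IsLocalRing.closedPoint O : Spec O)) ∈ U := hzU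
    have h2 : j (IsLocalRing.closedPoint O : Spec O) = z := Scheme.fromSpecStalk_closedPoint
    rw [h2] at h1
    exact h1
  obtain ⟨D, i1, i2, i3, π, hπ, hπg⟩ := K959.Germ.exists_dvr_quotient O hOf g hg0
  -- the structure on `D`
  letI : Algebra K D := (π.comp κ.hom).toAlgebra
  have hker : RingHom.ker π ≤ RingHom.ker ρ₀.hom := by
    have hs : Function.Surjective ρ₀.hom := fun c => ⟨_, hκρ c⟩
    have h1 := IsLocalRing.eq_maximalIdeal (RingHom.ker_isMaximal_of_surjective ρ₀.hom hs)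
    rw [h1]
    exact IsLocalRing.le_maximalIdeal (RingHom.ker_ne_top π)
  let ρ : D →+* K := π.liftOfSurjective hπ ⟨ρ₀.hom, hker⟩
  have hρπ : ∀ o : O, ρ (π o) = ρ₀.hom o := fun o =>
    RingHom.liftOfRightInverse_comp_apply π _ _ ⟨ρ₀.hom, hker⟩ o
  have hρ : ∀ c, ρ (algebraMap K D c) = c := by
    intro c
    change ρ (π (κ.hom c)) = c
    rw [hρπ, hκρ]
  let u : Spec (CommRingCat.of D) ⟶ X := Spec.map (CommRingCat.ofHom π) ≫ j ≫ p1
  refine K959.ArcGeom.main f U n V a b hab ha hb D ρ hρ u ?_ x ?_ (FractionRing D) ?_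
  · simp only [u, Category.assoc]
    rw [hcomm, reassoc_of% hκ.symm, ← Spec.map_comp_assoc]
    rfl
  · simp only [u]
    rw [← Spec.map_comp_assoc, ← CommRingCat.ofHom_comp]
    have : CommRingCat.ofHom (ρ.comp π) = ρ₀ := by
      ext o
      exact hρπ o
    rw [this, reassoc_of% hρ₀, hx1]
  · rintro _ ⟨y, rfl⟩
    change (j ≫ p1) (Spec.map (CommRingCat.ofHom π)
      (Spec.map (CommRingCat.ofHom (algebraMap D (FractionRing D))) y)) ∈ U
    apply hgU
    change ¬ (algebraMap D (FractionRing D) (π g) ∈ y.asIdeal)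
    intro hmem
    exact y.2.ne_top (Ideal.eq_top_of_isUnit_mem _ hmem (isUnit_iff_ne_zero.mpr fun h0 =>
      hπg (IsFractionRing.injective D (FractionRing D) (by rw [h0, map_zero]))))

end K959.SmoothPt
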